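import Cfsg.Agent.Lib.Bender.Gen.Structure
import Cfsg.Agent.Lib.PGroups.Suzuki.Unitary
import Cfsg.Agent.Lib.Lie.Suzuki.Structure
import Cfsg.Agent.Lib.Known.SL2Multiplier
import Cfsg.Agent.Lib.Known.CpQuotient
import Cfsg.Agent.S2089

/-!
Owner: helper18. S3181: facts on the Sylow 2-subgroups of the rank one families.

* `Shape P`: the squares are central, central elements square to one, and the central index is at least eight.
* `Transitive P`: the normaliser is transitive on the nontrivial cosets of the centre.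
* `sylow_cases`: exponent two, or `Shape P` and (transitive, or every stem extension has odd kernel).
-/

set_option autoImplicit false
set_option linter.style.haveILetI false
set_option linter.unusedSectionVars false

namespace CfsgLib.CentralMeet

open Subgroup

universe u v

variable {J : Type u} [Group J]

/-- A Sylow subgroup as in the Suzuki and the unitary groups. -/
structure Shape (P : Subgroup J) : Prop where
  sq_central : ∀ x ∈ P, ∀ y ∈ P, y * (x * x) = x * x * y
  central_sq : ∀ x ∈ P, (∀ y ∈ P, y * x = x * y) → x * x = 1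
  big : 8 ≤ (center P).index

/-- The normaliser is transitive on the nontrivial cosets of the centre. -/
def Transitive (P : Subgroup J) : Prop :=
  ∀ x ∈ P, ∀ y ∈ P, (∃ r ∈ P, r * x ≠ x * r) → (∃ r ∈ P, r * y ≠ y * r) →
    ∃ n ∈ normalizer (P : Set J), ∀ r ∈ P, r * ((n * x * n⁻¹)⁻¹ * y) = (n * x * n⁻¹)⁻¹ * y * r

/-- Perfect central extensions have odd kernel. -/
def OddCover (J : Type u) [Group J] : Prop :=
  ∀ (E : Type u) [Group E] [Finite E] (σ : E →* J), Group.IsPerfect E → Function.Surjective σ →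
    σ.ker ≤ center E → Odd (Nat.card σ.ker)

theorem Shape.of_mulEquiv {J' : Type v} [Group J'] (e : J ≃* J') {P : Subgroup J} {P' : Subgroup J'}
    (he : P.map e.toMonoidHom = P') (h : Shape P') : Shape P := by
  have hm : ∀ {x : J}, x ∈ P → e x ∈ P' := fun hx => he ▸ mem_map_of_mem _ hx
  refine ⟨fun x hx y hy => e.injective (by simpa using h.sq_central _ (hm hx) _ (hm hy)),
    fun x hx hc => e.injective ?_, ?_⟩
  · rw [map_mul, map_one]
    refine h.central_sq _ (hm hx) fun y hy => ?_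
    obtain ⟨y, hy', rfl⟩ := (he ▸ hy : y ∈ P.map e.toMonoidHom)
    simpa using congrArg e (hc y hy')
  · let e' : P ≃* P' := (e.subgroupMap P).trans (MulEquiv.subgroupCongr he)
    refine h.big.trans (le_of_eq ?_)
    have h1 : (center P).map e'.toMonoidHom = center P' := by
      ext y
      rw [mem_map_equiv, mem_center_iff, mem_center_iff]
      exact ⟨fun h z => e'.symm.injective (by simpa using h (e'.symm z)),
        fun h z => e'.injective (by simpa using h (e' z))⟩
    rw [← h1]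
    exact index_map_equiv _ e'

theorem Transitive.of_mulEquiv {J' : Type v} [Group J'] (e : J ≃* J') {P : Subgroup J} {P' : Subgroup J'}
    (he : P.map e.toMonoidHom = P') (h : Transitive P') : Transitive P := by
  have hm : ∀ {x : J}, x ∈ P → e x ∈ P' := fun hx => he ▸ mem_map_of_mem _ hx
  have hm' : ∀ {x : J'}, x ∈ P' → e.symm x ∈ P := fun {x} hx => by
    obtain ⟨y, hy, rfl⟩ := (he ▸ hx : x ∈ P.map e.toMonoidHom)
    simpa using hy
  have hnc : ∀ {x : J}, (∃ r ∈ P, r * x ≠ x * r) → ∃ r ∈ P', r * e x ≠ e x * r := fun ⟨r, hr, hne⟩ =>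
    ⟨e r, hm hr, fun h => hne (e.injective (by simpa using h))⟩
  intro x hx y hy hxn hyn
  obtain ⟨n, hn, hc⟩ := h _ (hm hx) _ (hm hy) (hnc hxn) (hnc hyn)
  refine ⟨e.symm n, mem_normalizer_iff.2 fun z => ?_, fun r hr => e.injective (by simpa using hc _ (hm hr))⟩
  constructor
  · intro hz
    have h1 := hm' ((mem_normalizer_iff.1 hn (e z)).1 (hm hz))
    simpa using h1
  · intro hz
    have h1 := hm' ((mem_normalizer_iff.1 hn (e z)).2 (by simpa using hm hz))
    simpa using h1

/-- The Sylow 2-subgroups of `SL(2, 2ⁿ)` have exponent two. -/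
theorem sq_eq_one_SL_two {F : Type v} [Field F] [Fintype F] [CharP F 2]
    (P : Sylow 2 (Matrix.SpecialLinearGroup (Fin 2) F)) :
    ∀ x ∈ (P : Subgroup (Matrix.SpecialLinearGroup (Fin 2) F)), x * x = 1 := by
  classical
  haveI := Fact.mk Nat.prime_two
  set U := (CfsgLib.Known.SL2Mult.uu (F := F)).range with hU
  have hcard : Nat.card U = Fintype.card F := by
    rw [hU, ← Nat.card_congr (MonoidHom.ofInjective CfsgLib.Known.SL2Mult.uu_injective).toEquiv,
      Nat.card_eq_fintype_card]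
    exact Fintype.card_multiplicative F
  have hp : IsPGroup 2 U := by
    obtain ⟨k, -, hk⟩ := FiniteField.card F 2
    exact IsPGroup.of_card (n := k) (hcard.trans hk)
  have hidx : ¬ 2 ∣ U.index := fun h => by
    have h1 := U.card_mul_index
    rw [hcard, CfsgLib.Classical.Two.card_SL_two] at h1
    rw [Nat.eq_of_mul_eq_mul_left Fintype.card_pos h1] at h
    exact CfsgLib.Classical.Two.not_dvd_card_sq_sub_one 2 h
  obtain ⟨g, hg⟩ := MulAction.exists_smul_eq (Matrix.SpecialLinearGroup (Fin 2) F) (hp.toSylow hidx) P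
  intro x hx
  rw [← hg, Sylow.coe_subgroup_smul, Subgroup.mem_pointwise_smul_iff_inv_smul_mem] at hx
  simp only [MulAut.smul_def, MulAut.conj_inv_apply] at hx
  obtain ⟨a, ha⟩ : ∃ a, CfsgLib.Known.SL2Mult.uu a = g⁻¹ * x * g := by
    simpa [hU, mul_assoc] using hx
  have h2 : a * a = 1 := Multiplicative.toAdd.injective (CharTwo.add_self_eq_zero (Multiplicative.toAdd a))
  have h3 := congrArg CfsgLib.Known.SL2Mult.uu h2
  rw [map_mul, map_one, ha, show g⁻¹ * x * g * (g⁻¹ * x * g) = g⁻¹ * (x * x) * g by group] at h3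
  simpa [mul_assoc] using congrArg (fun w => g * w * g⁻¹) h3

section Suzuki

open CfsgLib.Lie.Suzuki

variable {F : Type v} [Field F] [Fintype F] [CharP F 2] {m : ℕ} (hF : Fintype.card F = 2 ^ (2 * m + 1))

theorem shape_unip (hm : 1 ≤ m) : Shape (unip hF) := by
  refine ⟨?_, fun x hx hc => ?_, ?_⟩
  · rintro _ ⟨a, b, rfl⟩ _ ⟨c, d, rfl⟩
    rw [← pow_two, uS_sq, uS_comm_zero]
  · obtain ⟨b, hb⟩ := (center_unip hF hm ⟨x, hx⟩).1 (mem_center_iff.2 fun y => Subtype.ext (hc y y.2))
    have hb' : x = uS hF 0 b := hb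
    rw [hb', ← pow_two, uS_sq, mul_zero, uS_one]
  · have h := (center (unip hF)).card_mul_index
    rw [card_center_unip hF hm, card_unip hF, pow_two] at h
    rw [Nat.eq_of_mul_eq_mul_left Fintype.card_pos h, hF]
    exact le_trans (by norm_num) (Nat.pow_le_pow_right two_pos (by omega : 3 ≤ 2 * m + 1))

theorem transitive_unip (hm : 1 ≤ m) : Transitive (unip hF) := by
  rintro _ ⟨a, b, rfl⟩ _ ⟨c, d, rfl⟩ ⟨r, hr, hra⟩ ⟨s, hs, hsc⟩
  have hne : ∀ {a b : F} {r : Cfsg.Sz F m}, r ∈ unip hF → r * uS hF a b ≠ uS hF a b * r → a ≠ 0 := by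
    rintro a b _ ⟨a', b', rfl⟩ h rfl
    exact h (uS_comm_zero hF a' b' b).symm
  have ha := hne hr hra
  have hc := hne hs hsc
  obtain ⟨t, ht⟩ := torusRatio_surjective hF (c / a) (div_ne_zero hc ha)
  refine ⟨tS hF t, mem_normalizer_iff.2 fun z => ⟨fun hz => conj_mem_unip hF hm (tS_mem_borel hF t) hz,
    fun hz => ?_⟩, fun z hz => ?_⟩
  · have := conj_mem_unip hF hm (inv_mem (tS_mem_borel hF t)) hz
    simpa [mul_assoc] using this
  · obtain ⟨e, f, rfl⟩ := hz
    rw [conj_uS, ht, div_mul_cancel₀ _ ha, uS_inv, uS_mul]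
    rw [show c + c = (0 : F) from CharTwo.add_self_eq_zero c, uS_comm_zero]

end Suzuki

theorem shape_param {F : Type v} [Field F] [CharP F 2] [Finite F] {σ : F →+* F} {q : ℕ}
    (hσ : CfsgLib.Classical.Herm.IsInvol σ) (hq : Nat.card (CfsgLib.Classical.Herm.fixedSub σ) = q)
    (hF : Nat.card F = q ^ 2) (hq4 : 4 ≤ q) {P : Subgroup J}
    (X : CfsgLib.PGroups.Suzuki.Unitary.Param σ P) : Shape P := by
  refine ⟨fun x hx y hy => congrArg Subtype.val (mem_center_iff.1 (X.sq_mem_center hσ ⟨x, hx⟩) ⟨y, hy⟩),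
    fun x hx hc => congrArg Subtype.val
      ((X.mem_center_iff_sq hσ ⟨x, hx⟩).1 (mem_center_iff.2 fun y => Subtype.ext (hc y y.2))), ?_⟩
  have h := (center P).card_mul_index
  rw [X.card_center hσ hq, ← Nat.card_congr X.el,
    CfsgLib.PGroups.Suzuki.Unitary.card_pts hσ hq hF] at h
  have h2 : (center P).index = q * q := by
    refine Nat.eq_of_mul_eq_mul_left (by omega : 0 < q) ?_
    rw [h]; ring
  rw [h2]
  exact le_trans (by norm_num) (Nat.mul_le_mul hq4 hq4)

theorem oddCover_psu {F : Type} [Field F] [Fintype F] {n : ℕ} (hn : 2 ≤ n)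
    (hF : Fintype.card F = (2 ^ n) ^ 2) (e : J ≃* Cfsg.PSU 3 F (2 ^ n)) : OddCover J := by
  intro E _ _ σ hE hs hc
  have hne : ¬ (3 = 3 ∧ 2 ^ n = 2) := fun h => by
    have := Nat.pow_le_pow_right two_pos hn
    omega
  have h := Cfsg.Agent.S2089.result 3 (2 ^ n) hF le_rfl hne (by simp)
  have hk : (e.toMonoidHom.comp σ).ker = σ.ker := by ext x; simp
  have hd := CfsgLib.Known.CpQuot.card_ker_dvd h (e.toMonoidHom.comp σ)
    ⟨e.surjective.comp hs, hk ▸ hc, by rw [hE.commutator_eq_top]; exact le_top⟩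
  rw [hk, CfsgLib.Known.CpQuot.natCard_zmod] at hd
  refine Odd.of_dvd_nat ?_ (hd.trans (Nat.gcd_dvd_right _ _))
  exact (Nat.even_pow.2 ⟨even_two, by omega⟩).add_one

/-- The Sylow 2-subgroups of the rank one families. -/
theorem sylow_cases [Finite J] (hJ : CfsgLib.Bender.RankOneFamily J) (P : Sylow 2 J) :
    (∀ x ∈ (P : Subgroup J), x * x = 1) ∨
      (Shape (P : Subgroup J) ∧ (Transitive (P : Subgroup J) ∨ OddCover J)) := by
  haveI := Fact.mk Nat.prime_two
  have himg : ∀ {J' : Type} [Group J'] (e : J ≃* J'), ∃ P' : Sylow 2 J', (P : Subgroup J).map e.toMonoidHom = P' :=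
    fun e => ⟨P.mapSurjective (f := e.toMonoidHom) e.surjective, (Sylow.coe_mapSurjective _ P).symm⟩
  rcases hJ with ⟨F, iF, iFt, hF2, h4, ⟨e⟩⟩ | ⟨F, iF, iFt, q, hq2, hq4, hF, ⟨e⟩⟩ | ⟨F, iF, iFt, m, hm, hF, ⟨e⟩⟩
  · obtain ⟨P', hP'⟩ := himg e
    refine Or.inl fun x hx => e.injective ?_
    rw [map_mul, map_one]
    exact sq_eq_one_SL_two P' _ (hP' ▸ mem_map_of_mem _ hx)
  · obtain ⟨r, hr⟩ := CharP.exists F
    obtain ⟨k', hrp, hk⟩ := FiniteField.card F r
    have hqd : q ∣ r ^ (k' : ℕ) := ⟨q, by rw [← hk, hF, pow_two]⟩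
    obtain ⟨n, -, hqn⟩ := (Nat.dvd_prime_pow hrp).1 hqd
    have hr2 : r = 2 := ((Nat.prime_dvd_prime_iff_eq Nat.prime_two hrp).1
      (Nat.prime_two.dvd_of_dvd_pow (n := n) (hqn ▸ even_iff_two_dvd.1 hq2))).symm
    subst hr2 hqn
    have hn : 2 ≤ n := by
      by_contra hlt
      have h1 : 2 ^ n ≤ 2 ^ 1 := Nat.pow_le_pow_right two_pos (by omega)
      omega
    obtain ⟨P', hP'⟩ := himg e
    obtain ⟨X⟩ := CfsgLib.PGroups.Suzuki.Unitary.exists_param (by omega) hF P'
    refine Or.inr ⟨Shape.of_mulEquiv e hP' ?_, Or.inr (oddCover_psu hn hF e)⟩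
    exact shape_param (CfsgLib.Classical.Herm.powHom_isInvol hF) (CfsgLib.Classical.Herm.card_fixed_powHom hF)
      (by rw [Nat.card_eq_fintype_card, hF]) hq4 X
  · haveI : CharP F 2 := CfsgLib.Lie.Suzuki.charTwo_of_card hF
    set e' := e.trans (CfsgLib.Lie.Suzuki.equivLie hm hF).symm with he'
    obtain ⟨P', hP'⟩ := himg e'
    obtain ⟨g, hg⟩ := CfsgLib.Lie.Suzuki.exists_conj_sylow hF hm P'
    set e'' := e'.trans (MulAut.conj g⁻¹) with he''
    have hP'' : (P : Subgroup J).map e''.toMonoidHom = CfsgLib.Lie.Suzuki.unip hF := by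
      rw [show e''.toMonoidHom = (MulAut.conj g⁻¹).toMonoidHom.comp e'.toMonoidHom from rfl, ← Subgroup.map_map,
        hP', hg, Subgroup.map_map]
      convert Subgroup.map_id _
      ext x
      simp [MulAut.conj_apply, mul_assoc]
    exact Or.inr ⟨Shape.of_mulEquiv e'' hP'' (shape_unip hF hm),
      Or.inl (Transitive.of_mulEquiv e'' hP'' (transitive_unip hF hm))⟩

end CfsgLib.CentralMeet
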