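import Cfsg.Agent.Lib.Invol.CentralMeet.Basic

/-!
Owner: helper18. S3181: an equivariant projection of an elementary abelian group, by averaging over an odd group.
-/

set_option autoImplicit false
set_option linter.style.haveILetI false
set_option linter.unusedSectionVars false

namespace CfsgLib.CentralMeet

open Subgroup

universe u

variable {G : Type u} [Group G] [Finite G]

/-- An equivariant projection of `Z` on `D`. -/
theorem exists_average {Z D W M : Subgroup G} {S : Sylow 2 G}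
    (hZc : ∀ z ∈ Z, ∀ y ∈ Z, z * y = y * z) (hZ2 : ∀ z ∈ Z, z * z = 1) (hD : D ≤ Z) (hW : W ≤ Z)
    (hWD : W ⊓ D = ⊥) (hsup : ∀ z ∈ Z, ∃ d ∈ D, ∃ w ∈ W, z = d * w)
    (hMZ : M ≤ normalizer (Z : Set G)) (hMD : M ≤ normalizer (D : Set G)) (hSM : (S : Subgroup G) ≤ M)
    (hSZ : ∀ s ∈ (S : Subgroup G), ∀ z ∈ Z, s * z = z * s) :
    ∃ ρ : G → G, (∀ z ∈ Z, ρ z ∈ D) ∧ (∀ z ∈ Z, ∀ y ∈ Z, ρ (z * y) = ρ z * ρ y) ∧ (∀ d ∈ D, ρ d = d) ∧
      ∀ m ∈ M, ∀ z ∈ Z, ρ (m * z * m⁻¹) = m * ρ z * m⁻¹ := by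
  classical
  haveI := Fact.mk Nat.prime_two
  haveI : IsMulCommutative D := ⟨⟨fun a b => Subtype.ext (hZc a (hD a.2) b (hD b.2))⟩⟩
  open IsMulCommutative in
  letI : CommGroup D := inferInstance
  choose! pD hpD pW hpW hdec using hsup
  have huniq : ∀ z ∈ Z, ∀ d ∈ D, ∀ w ∈ W, z = d * w → pD z = d := by
    intro z hz d hd w hw he
    have h1 : d⁻¹ * pD z ∈ W ⊓ D := ⟨by
      have h2 : d⁻¹ * pD z = w * (pW z)⁻¹ := by
        rw [inv_mul_eq_iff_eq_mul, ← mul_assoc, eq_mul_inv_iff_mul_eq, ← hdec z hz, ← he]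
      rw [h2]; exact W.mul_mem hw (W.inv_mem (hpW z hz)), D.mul_mem (D.inv_mem hd) (hpD z hz)⟩
    rw [hWD, mem_bot, inv_mul_eq_one] at h1
    exact h1.symm
  have hconjZ : ∀ m ∈ M, ∀ z ∈ Z, m * z * m⁻¹ ∈ Z := fun m hm z hz => (mem_normalizer_iff.1 (hMZ hm) z).1 hz
  have hconjD : ∀ m ∈ M, ∀ z ∈ D, m * z * m⁻¹ ∈ D := fun m hm z hz => (mem_normalizer_iff.1 (hMD hm) z).1 hz
  have hinvM : ∀ m ∈ M, ∀ z ∈ Z, m⁻¹ * z * m ∈ Z := fun m hm z hz => by
    simpa using hconjZ m⁻¹ (inv_mem hm) z hz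
  -- the conjugates of the projection
  let F : M → Z → D := fun m z => ⟨(m : G) * pD ((m : G)⁻¹ * z * m) * (m : G)⁻¹,
    hconjD m m.2 _ (hpD _ (hinvM m m.2 z z.2))⟩
  have hFmul : ∀ m z y, F m (z * y) = F m z * F m y := fun m z y => by
    refine Subtype.ext ?_
    show (m : G) * pD ((m : G)⁻¹ * (z * y : G) * m) * (m : G)⁻¹ =
      (m : G) * pD ((m : G)⁻¹ * z * m) * (m : G)⁻¹ * ((m : G) * pD ((m : G)⁻¹ * y * m) * (m : G)⁻¹)
    have hz' := hinvM m m.2 z z.2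
    have hy' := hinvM m m.2 y y.2
    have h1 : pD ((m : G)⁻¹ * (z * y : G) * m) = pD ((m : G)⁻¹ * z * m) * pD ((m : G)⁻¹ * y * m) := by
      refine huniq _ (hinvM m m.2 _ (mul_mem z.2 y.2)) _ (mul_mem (hpD _ hz') (hpD _ hy'))
        (pW ((m : G)⁻¹ * z * m) * pW ((m : G)⁻¹ * y * m)) (mul_mem (hpW _ hz') (hpW _ hy')) ?_
      rw [show (m : G)⁻¹ * (z * y : G) * m = ((m : G)⁻¹ * z * m) * ((m : G)⁻¹ * y * m) by group]
      conv_lhs => rw [hdec _ hz', hdec _ hy']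
      generalize pD ((m : G)⁻¹ * z * m) = a at *
      have hcomm := hZc _ (hW (hpW _ hz')) _ (hD (hpD _ hy'))
      rw [mul_assoc a, ← mul_assoc (pW _), hcomm]
      simp only [mul_assoc]
    rw [h1]
    group
  have hFid : ∀ (m : M) (z : Z), (z : G) ∈ D → (F m z : G) = z := fun m z hz => by
    show (m : G) * pD ((m : G)⁻¹ * z * m) * (m : G)⁻¹ = z
    have hz' : (m : G)⁻¹ * z * m ∈ D := by simpa using hconjD _ (inv_mem m.2) _ hz
    rw [huniq _ (hD hz') _ hz' 1 (one_mem _) (mul_one _).symm]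
    group
  set C : Subgroup M := (centralizer (Z : Set G)).subgroupOf M with hC
  have hinvar : ∀ n c : M, c ∈ C → F (n * c) = F n := fun n c hc => by
    funext z
    refine Subtype.ext ?_
    have hcz : ∀ y ∈ Z, (c : G)⁻¹ * y * c = y := fun y hy => by
      rw [mul_assoc, mem_centralizer_iff.1 (mem_subgroupOf.1 hc) y hy, inv_mul_cancel_left]
    show (n : G) * c * pD (((n : G) * c)⁻¹ * z * ((n : G) * c)) * ((n : G) * c)⁻¹ =
      (n : G) * pD ((n : G)⁻¹ * z * n) * (n : G)⁻¹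
    rw [show ((n : G) * c)⁻¹ * z * ((n : G) * c) = (c : G)⁻¹ * ((n : G)⁻¹ * z * n) * c by group,
      hcz _ (hinvM n n.2 z z.2)]
    rw [mul_assoc (n : G), ← mem_centralizer_iff.1 (mem_subgroupOf.1 hc) _ (hD (hpD _ (hinvM n n.2 z z.2)))]
    group
  haveI : Fintype (M ⧸ C) := Fintype.ofFinite _
  have hodd : Odd (Fintype.card (M ⧸ C)) := by
    rw [← Nat.card_eq_fintype_card, ← Subgroup.index_eq_card, Nat.odd_iff, ← Nat.two_dvd_ne_zero]
    intro hd
    refine (S.subtype hSM).not_dvd_index (hd.trans (index_dvd_of_le ?_))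
    intro s hs
    exact mem_subgroupOf.2 (mem_centralizer_iff.2 fun z hz => (hSZ _ (mem_subgroupOf.1 hs) z hz).symm)
  refine ⟨fun z => if hz : z ∈ Z then ((∏ q : M ⧸ C, F q.out ⟨z, hz⟩ : D) : G) else 1, ?_, ?_, ?_, ?_⟩
  · intro z hz
    simp only [dif_pos hz]
    exact SetLike.coe_mem _
  · intro z hz y hy
    simp only [dif_pos hz, dif_pos hy, dif_pos (mul_mem hz hy)]
    rw [← Subgroup.coe_mul, ← Finset.prod_mul_distrib]
    refine congrArg Subtype.val (Finset.prod_congr rfl fun q _ => ?_)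
    exact hFmul q.out ⟨z, hz⟩ ⟨y, hy⟩
  · intro d hd
    simp only [dif_pos (hD hd)]
    have h1 : ∀ q : M ⧸ C, F q.out ⟨d, hD hd⟩ = ⟨d, hd⟩ := fun q => Subtype.ext (hFid q.out ⟨d, hD hd⟩ hd)
    rw [Finset.prod_congr rfl fun q _ => h1 q, Finset.prod_const, Finset.card_univ]
    obtain ⟨j, hj⟩ := hodd
    rw [Subgroup.coe_pow, hj, pow_succ, pow_mul, pow_two, hZ2 d (hD hd), one_pow, one_mul]
  · intro m hm z hz
    simp only [dif_pos hz, dif_pos (hconjZ m hm z hz)]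
    let μ : D →* D := MonoidHom.mk' (fun r => ⟨m * r * m⁻¹, hconjD m hm r r.2⟩) fun a b => Subtype.ext (by
      show m * (a * b : G) * m⁻¹ = _
      simp [mul_assoc])
    have h1 : (∏ q : M ⧸ C, F q.out ⟨m * z * m⁻¹, hconjZ m hm z hz⟩) = μ (∏ q : M ⧸ C, F q.out ⟨z, hz⟩) := by
      rw [map_prod]
      refine (Fintype.prod_equiv (MulAction.toPerm (⟨m, hm⟩ : M)) _ _ fun q => ?_).symm
      obtain ⟨c, hc, he⟩ : ∃ c ∈ C, (MulAction.toPerm (⟨m, hm⟩ : M) q).out = ⟨m, hm⟩ * q.out * c := by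
        refine ⟨((⟨m, hm⟩ : M) * q.out)⁻¹ * (MulAction.toPerm (⟨m, hm⟩ : M) q).out, ?_, by group⟩
        refine QuotientGroup.eq.1 ?_
        rw [QuotientGroup.out_eq']
        conv_rhs => rw [MulAction.toPerm_apply, ← QuotientGroup.out_eq' q]
        rfl
      rw [he, hinvar _ _ hc]
      refine Subtype.ext ?_
      show m * ((q.out : G) * pD ((q.out : G)⁻¹ * z * q.out) * (q.out : G)⁻¹) * m⁻¹ =
        (m * (q.out : G)) * pD ((m * (q.out : G))⁻¹ * (m * z * m⁻¹) * (m * (q.out : G))) * (m * (q.out : G))⁻¹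
      rw [show (m * (q.out : G))⁻¹ * (m * z * m⁻¹) * (m * (q.out : G)) = (q.out : G)⁻¹ * z * q.out by group]
      group
    rw [h1]
    rfl

/-- A complement in an elementary abelian group. -/
theorem exists_complement {Z D : Subgroup G} (hZc : ∀ z ∈ Z, ∀ y ∈ Z, z * y = y * z)
    (hZ2 : ∀ z ∈ Z, z * z = 1) (hD : D ≤ Z) :
    ∃ W : Subgroup G, W ≤ Z ∧ W ⊓ D = ⊥ ∧ ∀ z ∈ Z, ∃ d ∈ D, ∃ w ∈ W, z = d * w := by
  obtain ⟨W, ⟨hWZ, hWD⟩, hmax⟩ := (Set.toFinite {W : Subgroup G | W ≤ Z ∧ W ⊓ D = ⊥}).exists_maximal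
    ⟨⊥, bot_le, bot_inf_eq D⟩
  refine ⟨W, hWZ, hWD, fun z hz => ?_⟩
  by_cases hzW : z ∈ W
  · exact ⟨1, one_mem _, z, hzW, (one_mul z).symm⟩
  let W' : Subgroup G :=
    { carrier := {y | y ∈ W ∨ y * z ∈ W}
      one_mem' := Or.inl (one_mem _)
      mul_mem' := by
        rintro a b ha hb
        have haZ : a ∈ Z := ha.elim (fun h => hWZ h) fun h => by simpa using mul_mem (hWZ h) (inv_mem hz)
        have hbZ : b ∈ Z := hb.elim (fun h => hWZ h) fun h => by simpa using mul_mem (hWZ h) (inv_mem hz)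
        rcases ha with ha | ha <;> rcases hb with hb | hb
        · exact Or.inl (mul_mem ha hb)
        · exact Or.inr (by rw [mul_assoc]; exact mul_mem ha hb)
        · refine Or.inr ?_
          rw [mul_assoc, hZc b hbZ z hz, ← mul_assoc]
          exact mul_mem ha hb
        · refine Or.inl ?_
          have h := mul_mem ha hb
          rwa [hZc b hbZ z hz, ← mul_assoc, mul_assoc a z z, hZ2 z hz, mul_one] at h
      inv_mem' := by
        intro a ha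
        have haZ : a ∈ Z := ha.elim (fun h => hWZ h) fun h => by simpa using mul_mem (hWZ h) (inv_mem hz)
        rw [inv_eq_of_mul_eq_one_right (hZ2 a haZ)]
        exact ha }
  have hlt : ¬ (W' ≤ Z ∧ W' ⊓ D = ⊥) := fun h => hzW (hmax h (fun y hy => Or.inl hy) (Or.inr (by
    rw [hZ2 z hz]; exact one_mem _) : z ∈ W'))
  have hW'Z : W' ≤ Z := fun a ha => ha.elim (fun h => hWZ h) fun h => by simpa using mul_mem (hWZ h) (inv_mem hz)
  obtain ⟨d, hd, hd1⟩ := (Subgroup.bot_or_exists_ne_one (W' ⊓ D)).resolve_left fun h => hlt ⟨hW'Z, h⟩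
  rcases hd.1 with h | h
  · exact absurd (mem_bot.1 (hWD ▸ ⟨h, hd.2⟩)) hd1
  · exact ⟨d, hd.2, d * z, h, by rw [← mul_assoc, hZ2 d (hD hd.2), one_mul]⟩

end CfsgLib.CentralMeet
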