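import Cfsg.Agent.Lib.ZStar.Apps
import Cfsg.Agent.Lib.HallGen.Basic
import Cfsg.Agent.Lib.Core.Cores

/-!
Owner: helper18. S3181: Sylow 2-subgroups with central intersections, the basic notions.

* `meetGen S`: the subgroup generated by the intersections of `S` with the other Sylow 2-subgroups.
* `Hyp G`: every `meetGen S` centralises `S` and is smaller than `S`.
* `Hyp.no_fixed`: without odd or 2-core, no involution of `Z(S)` is fixed by `N(S)`.
-/

set_option autoImplicit false
set_option linter.style.haveILetI false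
set_option linter.unusedSectionVars false

namespace CfsgLib.CentralMeet

open Subgroup

universe u v

variable {G : Type u} [Group G]

/-- The subgroup generated by the intersections of `S` with the other Sylow 2-subgroups. -/
def meetGen (S : Sylow 2 G) : Subgroup G :=
  ⨆ (T : Sylow 2 G) (_ : T ≠ S), (S : Subgroup G) ⊓ (T : Subgroup G)

theorem inf_le_meetGen {S T : Sylow 2 G} (h : T ≠ S) : (S : Subgroup G) ⊓ (T : Subgroup G) ≤ meetGen S :=
  le_iSup₂ (f := fun (T : Sylow 2 G) (_ : T ≠ S) => (S : Subgroup G) ⊓ (T : Subgroup G)) T h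

theorem meetGen_le (S : Sylow 2 G) : meetGen S ≤ (S : Subgroup G) := iSup₂_le fun _ _ => inf_le_left

theorem mem_smul_sylow {g x : G} {S : Sylow 2 G} :
    x ∈ ((g • S : Sylow 2 G) : Subgroup G) ↔ g⁻¹ * x * g ∈ (S : Subgroup G) := by
  rw [Sylow.coe_subgroup_smul, Subgroup.mem_pointwise_smul_iff_inv_smul_mem]
  simp [MulAut.smul_def, mul_assoc]

theorem conj_mem_smul {g x : G} {S : Sylow 2 G} (hx : x ∈ (S : Subgroup G)) :
    g * x * g⁻¹ ∈ ((g • S : Sylow 2 G) : Subgroup G) :=
  mem_smul_sylow.2 (by simpa [mul_assoc] using hx)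

theorem map_conj_meetGen_le (g : G) (S : Sylow 2 G) :
    (meetGen S).map (MulAut.conj g).toMonoidHom ≤ meetGen (g • S) := by
  unfold meetGen
  rw [Subgroup.map_iSup]
  refine iSup_le fun T => ?_
  rw [Subgroup.map_iSup]
  refine iSup_le fun hT => ?_
  rintro _ ⟨x, hx, rfl⟩
  exact inf_le_meetGen (S := g • S) (T := g • T) (fun e => hT (smul_left_cancel g e))
    ⟨conj_mem_smul hx.1, conj_mem_smul hx.2⟩

theorem conj_mem_meetGen {S : Sylow 2 G} {n x : G} (hn : n ∈ normalizer ((S : Subgroup G) : Set G))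
    (hx : x ∈ meetGen S) : n * x * n⁻¹ ∈ meetGen S := by
  have h := map_conj_meetGen_le n S ⟨x, hx, rfl⟩
  rwa [Sylow.smul_eq_iff_mem_normalizer.2 hn] at h

/-- The hypothesis inherited by the sections. -/
structure Hyp (G : Type u) [Group G] : Prop where
  central : ∀ S T : Sylow 2 G, S ≠ T →
    (S : Subgroup G) ⊓ (T : Subgroup G) ≤ centralizer ((S : Subgroup G) : Set G)
  proper : ∀ S : Sylow 2 G, ∃ s ∈ (S : Subgroup G), s ∉ meetGen S

namespace Hyp

variable (hG : Hyp G)
include hG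

theorem meetGen_le_centralizer (S : Sylow 2 G) : meetGen S ≤ centralizer ((S : Subgroup G) : Set G) :=
  iSup₂_le fun T hT => hG.central S T (Ne.symm hT)

theorem comm {S : Sylow 2 G} {z s : G} (hz : z ∈ meetGen S) (hs : s ∈ (S : Subgroup G)) : s * z = z * s :=
  mem_centralizer_iff.1 (hG.meetGen_le_centralizer S hz) s hs

theorem ne_bot (S : Sylow 2 G) : (S : Subgroup G) ≠ ⊥ := fun h => by
  obtain ⟨s, hs, hs'⟩ := hG.proper S
  rw [h, mem_bot] at hs
  exact hs' (hs ▸ one_mem _)

omit hG in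
/-- An element outside `meetGen S` lies in no other Sylow subgroup. -/
theorem eq_of_not_mem {S T : Sylow 2 G} {x : G} (hx : x ∈ (S : Subgroup G)) (hx' : x ∉ meetGen S)
    (hxT : x ∈ (T : Subgroup G)) : T = S :=
  by_contra fun h => hx' (inf_le_meetGen h ⟨hx, hxT⟩)

omit hG in
theorem smul_eq_of_commute {S : Sylow 2 G} {x g : G} (hx : x ∈ (S : Subgroup G)) (hx' : x ∉ meetGen S)
    (hg : g * x = x * g) : g • S = S := by
  refine eq_of_not_mem hx hx' (mem_smul_sylow.2 ?_)
  rwa [mul_assoc, ← hg, inv_mul_cancel_left]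

/-- Fusion of central elements of `S` in the normaliser of `S`. -/
theorem fusion [Finite G] {S : Sylow 2 G} {a g : G} (ha : a ∈ centralizer ((S : Subgroup G) : Set G))
    (hb : g * a * g⁻¹ ∈ centralizer ((S : Subgroup G) : Set G)) :
    ∃ n ∈ normalizer ((S : Subgroup G) : Set G), g * a * g⁻¹ = n * a * n⁻¹ := by
  haveI := Fact.mk Nat.prime_two
  obtain ⟨n, hn, he⟩ := S.conj_eq_normalizer_conj_of_mem_centralizer a g⁻¹ ha (by simpa using hb)
  exact ⟨n⁻¹, inv_mem hn, by simpa using he⟩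

/-- No involution of `Z(S)` is fixed by the normaliser. -/
theorem no_fixed [Finite G] (hO : Cfsg.oddCore G = ⊥) (hP : Cfsg.pCore 2 G = ⊥) {S : Sylow 2 G} {z : G}
    (hz : z ∈ (S : Subgroup G)) (hz2 : orderOf z = 2) (hzc : ∀ s ∈ (S : Subgroup G), s * z = z * s)
    (hfix : ∀ n ∈ normalizer ((S : Subgroup G) : Set G), n * z = z * n) : False := by
  haveI := Fact.mk Nat.prime_two
  have hiso : ∀ g : G, g * z * g⁻¹ ∈ (S : Subgroup G) → g * z * g⁻¹ = z := fun g hg => by
    have hfix' : ∀ n ∈ normalizer ((S : Subgroup G) : Set G), n * z * n⁻¹ = z := fun n hn => by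
      rw [hfix n hn, mul_inv_cancel_right]
    by_cases hc : g * z * g⁻¹ ∈ centralizer ((S : Subgroup G) : Set G)
    · obtain ⟨n, hn, he⟩ := hG.fusion (mem_centralizer_iff.2 hzc) hc
      rw [he, hfix' n hn]
    · have hy : g * z * g⁻¹ ∉ meetGen S := fun h => hc (hG.meetGen_le_centralizer S h)
      refine hfix' g (Sylow.smul_eq_iff_mem_normalizer.1 ?_)
      have hle : ((g • S : Sylow 2 G) : Subgroup G) ≤ normalizer ((S : Subgroup G) : Set G) := fun r hr => by
        refine Sylow.smul_eq_iff_mem_normalizer.1 (smul_eq_of_commute hg hy ?_)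
        have h1 := congrArg (fun w => g * w * g⁻¹) (hzc _ (mem_smul_sylow.1 hr))
        simpa [mul_assoc] using h1
      have h2 : ((g • S : Sylow 2 G) : Subgroup G) ≤ (S : Subgroup G) := fun r hr => by
        have h3 := (g • S).isPGroup'.inf_normalizer_sylow S
        exact ((h3 ▸ ⟨hr, hle hr⟩ : r ∈ ((g • S : Sylow 2 G) : Subgroup G) ⊓ (S : Subgroup G))).2
      exact (Sylow.ext ((g • S).is_maximal' S.isPGroup' h2)).symm
  have h1 := CfsgLib.ZStar.mem_oddCore_of_sylow S hz2 hz hiso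
  have hc : ∀ g : G, z * g = g * z := fun g => by
    have h := h1 g
    rw [hO, mem_bot, mul_inv_eq_one, mul_inv_eq_iff_eq_mul] at h
    exact h
  haveI : (zpowers z).Normal := ⟨fun x hx g => by
    obtain ⟨i, rfl⟩ := hx
    have : Commute z g := hc g
    rw [(this.zpow_left i).symm.eq, mul_inv_cancel_right]
    exact ⟨i, rfl⟩⟩
  have h2 : zpowers z ≤ Cfsg.pCore 2 G := le_sSup ⟨inferInstance,
    IsPGroup.of_card (n := 1) (by rw [Nat.card_zpowers, hz2, pow_one])⟩
  rw [hP] at h2
  exact CfsgLib.Signalizer.involution_ne_one hz2 (mem_bot.1 (h2 (mem_zpowers z)))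

/-- `Z(S)` has an involution. -/
theorem exists_central_involution [Finite G] (S : Sylow 2 G) :
    ∃ z ∈ (S : Subgroup G), orderOf z = 2 ∧ ∀ s ∈ (S : Subgroup G), s * z = z * s := by
  haveI := Fact.mk Nat.prime_two
  haveI : Nontrivial (S : Subgroup G) := (S : Subgroup G).nontrivial_iff_ne_bot.2 (hG.ne_bot S)
  haveI : Nontrivial (center (S : Subgroup G)) := S.isPGroup'.center_nontrivial
  obtain ⟨k, hk0, hk⟩ := (S.isPGroup'.to_subgroup (center (S : Subgroup G))).nontrivial_iff_card.1 ‹_›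
  obtain ⟨⟨⟨z, hz⟩, hzc⟩, hz2⟩ := exists_prime_orderOf_dvd_card' (G := center (S : Subgroup G)) 2
    (hk ▸ dvd_pow_self 2 hk0.ne')
  rw [Subgroup.orderOf_mk, Subgroup.orderOf_mk] at hz2
  exact ⟨z, hz, hz2, fun s hs => congrArg Subtype.val (mem_center_iff.1 hzc ⟨s, hs⟩)⟩

/-- Without odd or 2-core, `S` has more than one involution. -/
theorem exists_second_involution [Finite G] (hO : Cfsg.oddCore G = ⊥) (hP : Cfsg.pCore 2 G = ⊥)
    (S : Sylow 2 G) {z : G} (hz : z ∈ (S : Subgroup G)) (hz2 : orderOf z = 2)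
    (hzc : ∀ s ∈ (S : Subgroup G), s * z = z * s) : ∃ x ∈ (S : Subgroup G), orderOf x = 2 ∧ x ≠ z := by
  by_contra h
  push Not at h
  refine hG.no_fixed hO hP hz hz2 hzc fun n hn => ?_
  have h1 := h _ ((mem_normalizer_iff.1 hn z).1 hz) (by rw [CfsgLib.Signalizer.orderOf_conj]; exact hz2)
  exact mul_inv_eq_iff_eq_mul.1 h1

end Hyp

end CfsgLib.CentralMeet
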