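import Cfsg.Agent.Lib.Invol.CentralMeet.Models
import Cfsg.Agent.Lib.Invol.RankOneInter.Final.Names
import Cfsg.Agent.Lib.PGroups.NonabTwo.Cover
import Cfsg.Agent.Lib.GW.Deps.DoubleCover
import Cfsg.Agent.S0252
import Cfsg.Agent.S2111

/-!
Owner: helper18. S3181: the perfect central extensions of the rank one families.
-/

set_option autoImplicit false
set_option linter.style.haveILetI false
set_option linter.unusedSectionVars false

namespace CfsgLib.CentralMeet

open Subgroup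

universe u v

variable {J : Type u} [Group J]

/-- `J` is a unitary group of even characteristic. -/
def IsU3 (J : Type u) [Group J] : Prop :=
  ∃ (n : ℕ) (F : Type) (_ : Field F) (_ : Fintype F), 2 ≤ n ∧ Fintype.card F = 4 ^ n ∧
    Nonempty (J ≃* Cfsg.PSU 3 F (2 ^ n))

/-- `J` is a Suzuki group. -/
def IsSz (J : Type u) [Group J] : Prop :=
  ∃ (m : ℕ) (F : Type) (_ : Field F) (_ : Fintype F), 1 ≤ m ∧ Fintype.card F = 2 ^ (2 * m + 1) ∧
    Nonempty (J ≃* ↥(Cfsg.Lie.Sz F (2 ^ (m + 1))))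

theorem family_cases [Finite J] (hJ : CfsgLib.Bender.RankOneFamily J) :
    (∃ (F : Type) (_ : Field F) (_ : Fintype F), CharP F 2 ∧ 4 ≤ Fintype.card F ∧
        Nonempty (J ≃* Matrix.SpecialLinearGroup (Fin 2) F) ∧
        ∀ P : Sylow 2 J, ∀ x ∈ (P : Subgroup J), x * x = 1) ∨
      ((IsU3 J ∨ IsSz J) ∧ ∀ P : Sylow 2 J, Shape (P : Subgroup J)) := by
  haveI := Fact.mk Nat.prime_two
  rcases hJ with ⟨F, iF, iFt, hF2, h4, ⟨e⟩⟩ | ⟨F, iF, iFt, q, hq2, hq4, hF, ⟨e⟩⟩ | ⟨F, iF, iFt, m, hm, hF, ⟨e⟩⟩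
  · refine Or.inl ⟨F, iF, iFt, hF2, h4, ⟨e⟩, fun P x hx => e.injective ?_⟩
    rw [map_mul, map_one]
    exact sq_eq_one_SL_two (P.mapSurjective (f := e.toMonoidHom) e.surjective) _
      (mem_map_of_mem _ hx)
  · obtain ⟨r, hr⟩ := CharP.exists F
    obtain ⟨k', hrp, hk⟩ := FiniteField.card F r
    have hqd : q ∣ r ^ (k' : ℕ) := ⟨q, by rw [← hk, hF, pow_two]⟩
    obtain ⟨n, -, hqn⟩ := (Nat.dvd_prime_pow hrp).1 hqd
    have hr2 : r = 2 := ((Nat.prime_dvd_prime_iff_eq Nat.prime_two hrp).1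
      (Nat.prime_two.dvd_of_dvd_pow (n := n) (hqn ▸ even_iff_two_dvd.1 hq2))).symm
    subst hr2 hqn
    have hn : 2 ≤ n := by
      by_contra hlt
      have h1 : 2 ^ n ≤ 2 ^ 1 := Nat.pow_le_pow_right two_pos (by omega)
      omega
    refine Or.inr ⟨Or.inl ⟨n, F, iF, iFt, hn, by
      rw [hF, show (4 : ℕ) = 2 ^ 2 by norm_num, ← pow_mul, ← pow_mul, mul_comm], ⟨e⟩⟩, fun P => ?_⟩
    set P' := P.mapSurjective (f := e.toMonoidHom) e.surjective with hP'
    obtain ⟨X⟩ := CfsgLib.PGroups.Suzuki.Unitary.exists_param (by omega) hF P'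
    refine Shape.of_mulEquiv e (Sylow.coe_mapSurjective (f := e.toMonoidHom) e.surjective P).symm ?_
    exact shape_param (CfsgLib.Classical.Herm.powHom_isInvol hF) (CfsgLib.Classical.Herm.card_fixed_powHom hF)
      (by rw [Nat.card_eq_fintype_card, hF]) hq4 X
  · refine Or.inr ⟨Or.inr ⟨m, F, iF, iFt, hm, hF, ⟨e⟩⟩, fun P => ?_⟩
    haveI : CharP F 2 := CfsgLib.Lie.Suzuki.charTwo_of_card hF
    set e' := e.trans (CfsgLib.Lie.Suzuki.equivLie hm hF).symm with he'
    obtain ⟨g, hg⟩ := CfsgLib.Lie.Suzuki.exists_conj_sylow hF hm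
      (P.mapSurjective (f := e'.toMonoidHom) e'.surjective)
    replace hg : (P : Subgroup J).map e'.toMonoidHom =
        (CfsgLib.Lie.Suzuki.unip hF).map (MulAut.conj g).toMonoidHom := hg
    set e'' := e'.trans (MulAut.conj g⁻¹) with he''
    refine Shape.of_mulEquiv e'' (P' := CfsgLib.Lie.Suzuki.unip hF) ?_ (shape_unip hF hm)
    rw [show e''.toMonoidHom = (MulAut.conj g⁻¹).toMonoidHom.comp e'.toMonoidHom from rfl, ← Subgroup.map_map,
      hg, Subgroup.map_map]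
    convert Subgroup.map_id _
    ext x
    simp [MulAut.conj_apply, mul_assoc]

variable {E : Type v} [Group E] [Finite E] {σ : E →* J}

theorem center_eq_ker (hJ : IsSimpleGroup J) (hperf : commutator J = ⊤) (hσ : Function.Surjective σ)
    (hc : σ.ker ≤ center E) : center E = σ.ker := by
  refine le_antisymm (fun z hz => ?_) hc
  have h1 : center J = ⊥ := ((inferInstance : (center J).Normal).eq_bot_or_eq_top).resolve_right fun h => by
    have h2 : commutator J = ⊥ := by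
      rw [commutator_def, commutator_eq_bot_iff_le_centralizer]
      exact fun x _ => mem_centralizer_iff.2 fun y _ => mem_center_iff.1 (h ▸ mem_top x) y
    exact (bot_ne_top (α := Subgroup J)) (h2.symm.trans hperf)
  have h2 : σ z ∈ center J := mem_center_iff.2 fun y => by
    obtain ⟨y, rfl⟩ := hσ y
    rw [← map_mul, ← map_mul, mem_center_iff.1 hz y]
  rw [h1, mem_bot] at h2
  exact h2

theorem psu_cover (hE : Group.IsPerfect E) (hσ : Function.Surjective σ) (hc : σ.ker ≤ center E) (hJ : IsU3 J) :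
    Odd (Nat.card σ.ker) ∧ ∃ (n : ℕ) (F : Type) (_ : Field F) (_ : Fintype F), 2 ≤ n ∧ Fintype.card F = 4 ^ n ∧
      (Nonempty (E ≃* Cfsg.PSU 3 F (2 ^ n)) ∨ Nonempty (E ≃* ↥(Cfsg.SU 3 F (2 ^ n)))) := by
  classical
  obtain ⟨n, F, iF, iFt, hn, hF4, ⟨e⟩⟩ := hJ
  have hF : Fintype.card F = (2 ^ n) ^ 2 := by
    rw [hF4, show (4 : ℕ) = 2 ^ 2 by norm_num, ← pow_mul, ← pow_mul, mul_comm]
  have hne : ¬ (3 = 3 ∧ 2 ^ n = 2) := fun h => by
    have := Nat.pow_le_pow_right two_pos hn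
    omega
  have hM := Cfsg.Agent.S2089.result 3 (2 ^ n) hF le_rfl hne (by simp)
  set τ := e.toMonoidHom.comp σ with hτ
  have hk : τ.ker = σ.ker := by ext x; simp [hτ]
  have hτs : Function.Surjective τ := e.surjective.comp hσ
  have hd := CfsgLib.Known.CpQuot.card_ker_dvd hM τ
    ⟨hτs, hk ▸ hc, by rw [hE.commutator_eq_top]; exact le_top⟩
  rw [hk, CfsgLib.Known.CpQuot.natCard_zmod] at hd
  refine ⟨Odd.of_dvd_nat ((Nat.even_pow.2 ⟨even_two, by omega⟩).add_one) (hd.trans (Nat.gcd_dvd_right _ _)),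
    n, F, iF, iFt, hn, hF4, ?_⟩
  by_cases h1 : Nat.card σ.ker = 1
  · refine Or.inl ⟨MulEquiv.ofBijective τ ⟨?_, hτs⟩⟩
    rw [← MonoidHom.ker_eq_bot_iff, hk]
    exact Subgroup.card_eq_one.1 h1
  refine Or.inr ?_
  have hg : Nat.gcd 3 (2 ^ n + 1) = 3 := by
    rcases (Nat.dvd_prime Nat.prime_three).1 (Nat.gcd_dvd_left 3 (2 ^ n + 1)) with h | h
    · rw [h, Nat.dvd_one] at hd; exact absurd hd h1
    · exact h
  have hcard : Nat.card σ.ker = 3 := by
    rw [hg] at hd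
    exact ((Nat.dvd_prime Nat.prime_three).1 hd).resolve_left h1
  have hσ' := CfsgLib.Classical.Herm.powHom_isInvol hF
  have hH := CfsgLib.Classical.Herm.hermStd_isHerm (n := 3) hF
  have hdim : Module.finrank F (Fin 3 → F) = 3 := CfsgLib.Classical.Herm.finrank_std
  have hperf : commutator (Cfsg.SU 3 F (2 ^ n)) = ⊤ := by
    have h1 := hH.HSU_le_commutator (by omega) (by
      rw [hdim, CfsgLib.Classical.Herm.card_fixed_powHom hF]; exact fun e e' => hne ⟨e, e'⟩)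
    set S := CfsgLib.Classical.Herm.suEquiv 3 hF with hS
    have h2 : (commutator (CfsgLib.Classical.Herm.HSU (CfsgLib.Classical.Herm.hermStd 3 hF))).map
        S.symm.toMonoidHom = commutator (Cfsg.SU 3 F (2 ^ n)) := by
      rw [commutator_def, commutator_def, Subgroup.map_commutator,
        Subgroup.map_top_of_surjective _ S.symm.surjective]
    rw [← h2, h1, Subgroup.map_top_of_surjective _ S.symm.surjective]
  set θ := QuotientGroup.mk' (center (Cfsg.SU 3 F (2 ^ n))) with hθ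
  refine CfsgLib.GW.Deps.cover_unique hM τ θ hτs (QuotientGroup.mk'_surjective _) (hk ▸ hc)
    (QuotientGroup.ker_mk' _).le hE.commutator_eq_top hperf ?_
  rw [hk, hcard, QuotientGroup.ker_mk', CfsgLib.Classical.Herm.card_center_SU hF 3 le_rfl, hg]

theorem sz_cover (hJs : IsSimpleGroup J) (hJp : commutator J = ⊤) (hE : Group.IsPerfect E)
    (hσ : Function.Surjective σ) (hc : σ.ker ≤ center E) (hJ : IsSz J) :
    (σ.ker = ⊥ ∧ ∃ (m : ℕ) (F : Type) (_ : Field F) (_ : Fintype F), 1 ≤ m ∧ Fintype.card F = 2 ^ (2 * m + 1) ∧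
        Nonempty (E ≃* ↥(Cfsg.Lie.Sz F (2 ^ (m + 1))))) ∨
      (center E ≠ ⊥ ∧ ∃ (F : Type) (_ : Field F) (_ : Fintype F), Fintype.card F = 8 ∧
        Nonempty (E ⧸ center E ≃* ↥(Cfsg.Lie.Sz F 4))) := by
  classical
  obtain ⟨m, F, iF, iFt, hm, hF, ⟨e⟩⟩ := hJ
  by_cases hk : σ.ker = ⊥
  · exact Or.inl ⟨hk, m, F, iF, iFt, hm, hF,
      ⟨(MulEquiv.ofBijective σ ⟨(MonoidHom.ker_eq_bot_iff σ).1 hk, hσ⟩).trans e⟩⟩
  rcases Nat.lt_or_ge m 2 with h2 | h2
  · obtain rfl : m = 1 := by omega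
    refine Or.inr ⟨by rwa [center_eq_ker hJs hJp hσ hc], F, iF, iFt, by rw [hF]; norm_num,
      ⟨((QuotientGroup.quotientMulEquivOfEq (center_eq_ker hJs hJp hσ hc)).trans
        (QuotientGroup.quotientKerEquivOfSurjective σ hσ)).trans (e.trans (MulEquiv.subgroupCongr (by norm_num)))⟩⟩
  · exfalso
    have hM := Cfsg.Agent.S2111.result h2 hF
    have hk' : (e.toMonoidHom.comp σ).ker = σ.ker := by ext x; simp
    have hd := CfsgLib.Known.CpQuot.card_ker_dvd hM (e.toMonoidHom.comp σ)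
      ⟨e.surjective.comp hσ, hk' ▸ hc, by rw [hE.commutator_eq_top]; exact le_top⟩
    rw [hk', CfsgLib.Known.CpQuot.natCard_zmod, Nat.dvd_one] at hd
    exact hk (Subgroup.card_eq_one.1 hd)

/-- A cover of `SL(2, 2ⁿ)` with 2-group kernel is trivial or `SL(2, 5)`. -/
theorem sl_two_cover [Finite J] (hJs : IsSimpleGroup J) (hJp : commutator J = ⊤) (hE : Group.IsPerfect E)
    (hσ : Function.Surjective σ) (hc : σ.ker ≤ center E) (h2 : IsPGroup 2 σ.ker) {F : Type} [Field F] [Fintype F]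
    [CharP F 2] (e : J ≃* Matrix.SpecialLinearGroup (Fin 2) F) :
    σ.ker = ⊥ ∨ Nonempty (E ≃* Matrix.SpecialLinearGroup (Fin 2) (ZMod 5)) := by
  classical
  have hz := center_eq_ker hJs hJp hσ hc
  obtain ⟨ep⟩ := CfsgLib.Recog.AffineTwo.psl_equiv_sl F
  set eq := ((QuotientGroup.quotientMulEquivOfEq hz).trans
    (QuotientGroup.quotientKerEquivOfSurjective σ hσ)).trans (e.trans ep.symm) with heq
  haveI : Finite (E ⧸ center E) := inferInstance
  have hq : Cfsg.IsQuasisimple E := ⟨hE, by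
    haveI := hJs
    exact ((QuotientGroup.quotientMulEquivOfEq hz).trans
      (QuotientGroup.quotientKerEquivOfSurjective σ hσ)).isSimpleGroup_congr.2 inferInstance⟩
  by_cases h4 : Fintype.card F = 4
  · obtain ⟨e5⟩ := Cfsg.Agent.S0252.result (F := F) h4
    haveI : Fact (Nat.Prime 5) := ⟨Nat.prime_five⟩
    rcases CfsgLib.PGroups.NonabTwo.center_eq_bot_or_sl25 hq (hz ▸ h2) (eq.trans e5) with h | h
    · exact Or.inl (hz ▸ h)
    · exact Or.inr h
  · exact Or.inl (hz ▸ CfsgLib.PGroups.NonabTwo.center_eq_bot_psl_two hq h4 eq)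

end CfsgLib.CentralMeet
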