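import Cfsg.Agent.Lib.Invol.CentralMeet.Global
import Cfsg.Agent.Lib.Invol.CentralMeet.Ends
import Cfsg.Agent.Lib.Recog.USylow.Closed

/-!
Owner: helper18. S3181: the structure of groups with central Sylow 2-intersections.
-/

set_option autoImplicit false
set_option linter.style.haveILetI false
set_option linter.unusedSectionVars false

namespace CfsgLib.CentralMeet

open Subgroup

universe u

variable {G : Type u} [Group G] [Finite G]

/-- The image of a 2-element of `J` in a Sylow subgroup. -/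
theorem mem_sylow_of_pGroup {X : Type u} [Group X] [Finite X] {J : Type u} [Group J] [Finite J] (σ : X →* J)
    {Y : Subgroup X} (hY : IsPGroup 2 Y) :
    ∃ P : Sylow 2 J, ∀ y ∈ Y, σ y ∈ (P : Subgroup J) := by
  haveI := Fact.mk Nat.prime_two
  obtain ⟨P, hP⟩ := (hY.map σ).exists_le_sylow
  exact ⟨P, fun y hy => hP (mem_map_of_mem σ hy)⟩

/-- In the linear case: abelian Sylow subgroups, or `SL(2, 5)`. -/
theorem case_SL_two (hG : Hyp G) {J : Type u} [Group J] [Finite J] (hJs : IsSimpleGroup J)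
    (hJp : commutator J = ⊤) {E : Subgroup (G ⧸ Cfsg.oddCore G)} [E.Normal] (hE : Group.IsPerfect E)
    (σ : E →* J) (hσ : Function.Surjective σ) (hσc : σ.ker ≤ center E)
    (hkerP : ∀ e : E, σ e = 1 → (e : G ⧸ Cfsg.oddCore G) ∈ Cfsg.pCore 2 (G ⧸ Cfsg.oddCore G))
    (hcomm : ∀ a ∈ Cfsg.pCore 2 (G ⧸ Cfsg.oddCore G), ∀ e ∈ E, a * e = e * a)
    (hne : ∃ S T : Sylow 2 (G ⧸ Cfsg.oddCore G), S ≠ T)
    (hcov : ∀ (R : Sylow 2 (G ⧸ Cfsg.oddCore G)), ∀ s ∈ (R : Subgroup (G ⧸ Cfsg.oddCore G)),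
      ∃ d ∈ Cfsg.pCore 2 (G ⧸ Cfsg.oddCore G), d ∈ (R : Subgroup (G ⧸ Cfsg.oddCore G)) ∧ s * d ∈ E)
    {F : Type} [Field F] [Fintype F] [CharP F 2] (e : J ≃* Matrix.SpecialLinearGroup (Fin 2) F)
    (hsq : ∀ P : Sylow 2 J, ∀ x ∈ (P : Subgroup J), x * x = 1) :
    (∀ S : Sylow 2 G, IsMulCommutative ↥(S : Subgroup G)) ∨
    (∃ (N M : Subgroup G) (_ : N.Normal) (_ : M.Normal) (_ : (N.subgroupOf M).Normal), N < M ∧
      Odd (Nat.card ↥N) ∧ Odd M.index ∧
      ∃ A L : Subgroup (↥M ⧸ N.subgroupOf M), IsMulCommutative ↥A ∧ IsPGroup 2 ↥A ∧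
        Nonempty (↥L ≃* Matrix.SpecialLinearGroup (Fin 2) (ZMod 5)) ∧ (∀ a ∈ A, ∀ l ∈ L, a * l = l * a) ∧
        A ⊔ L = ⊤) := by
  haveI := Fact.mk Nat.prime_two
  set O := Cfsg.oddCore G with hOdef
  set π := QuotientGroup.mk' O with hπ
  have hπs : Function.Surjective π := QuotientGroup.mk'_surjective O
  have hK : Hyp (G ⧸ O) := hG.quot_oddCore
  set P := Cfsg.pCore 2 (G ⧸ O) with hP
  have hPc : ∀ (R : Sylow 2 (G ⧸ O)), ∀ s ∈ (R : Subgroup (G ⧸ O)), ∀ z ∈ P, Commute s z := fun R s hs z hz =>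
    hK.comm (pCore_le_meetGen hne R hz) hs
  have h2 : IsPGroup 2 σ.ker := by
    refine IsPGroup.of_injective (CfsgLib.Core.isPGroup_pCore 2 (G ⧸ O))
      (((E.subtype).comp σ.ker.subtype).codRestrict P fun x => hkerP x x.2) ?_
    intro x y h
    exact Subtype.ext (Subtype.ext (congrArg (fun z : P => (z : G ⧸ O)) h))
  rcases sl_two_cover hJs hJp hE hσ hσc h2 e with hk | ⟨⟨e5⟩⟩
  · refine Or.inl fun S => ?_
    set R := S.mapSurjective hπs with hR
    have hinj : Function.Injective σ := (MonoidHom.ker_eq_bot_iff σ).1 hk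
    obtain ⟨P', hP'⟩ := mem_sylow_of_pGroup σ (Y := (R : Subgroup (G ⧸ O)).comap E.subtype)
      (R.isPGroup'.comap_of_injective E.subtype E.subtype_injective)
    have hE2 : ∀ x : G ⧸ O, x ∈ (R : Subgroup (G ⧸ O)) → x ∈ E → x * x = 1 := fun x hxR hxE => by
      have h1 : (⟨x, hxE⟩ : E) * ⟨x, hxE⟩ = 1 := hinj (by
        rw [map_mul, map_one]; exact hsq P' _ (hP' _ (show x ∈ (R : Subgroup (G ⧸ O)) from hxR)))
      exact congrArg Subtype.val h1
    have hRab : ∀ s ∈ (R : Subgroup (G ⧸ O)), ∀ t ∈ (R : Subgroup (G ⧸ O)), Commute s t := by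
      intro s hs t ht
      obtain ⟨d₁, hd₁, hd₁R, he₁⟩ := hcov R s hs
      obtain ⟨d₂, hd₂, hd₂R, he₂⟩ := hcov R t ht
      have hs' := mul_mem hs hd₁R
      have ht' := mul_mem ht hd₂R
      have i1 := inv_eq_of_mul_eq_one_right (hE2 _ hs' he₁)
      have i2 := inv_eq_of_mul_eq_one_right (hE2 _ ht' he₂)
      have i3 := inv_eq_of_mul_eq_one_right (hE2 _ (mul_mem hs' ht') (mul_mem he₁ he₂))
      have hc : Commute (s * d₁) (t * d₂) := by
        rw [commute_iff_eq]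
        exact i3.symm.trans (by rw [mul_inv_rev, i1, i2])
      have a1 : Commute (s * d₁) d₂⁻¹ := (hPc R _ hs' _ hd₂).inv_right
      have a2 : Commute d₁⁻¹ (t * d₂) := (hPc R _ ht' _ hd₁).symm.inv_left
      have a3 : Commute d₁⁻¹ d₂⁻¹ := ((hPc R _ hd₁R _ hd₂).inv_left).inv_right
      have := (hc.mul_right a1).mul_left (a2.mul_right a3)
      simpa [mul_assoc] using this
    refine ⟨⟨fun a b => Subtype.ext ?_⟩⟩
    have hmem : ∀ x : (S : Subgroup G), π x ∈ (R : Subgroup (G ⧸ O)) := fun x => by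
      rw [hR, Sylow.coe_mapSurjective]; exact mem_map_of_mem π x.2
    have h1 : (a : G) * b * (a : G)⁻¹ * (b : G)⁻¹ ∈ O ⊓ (S : Subgroup G) := by
      refine ⟨(QuotientGroup.eq_one_iff _).1 (show π ((a : G) * b * (a : G)⁻¹ * (b : G)⁻¹) = 1 from ?_), ?_⟩
      · rw [map_mul, map_mul, map_mul, map_inv, map_inv, (hRab _ (hmem a) _ (hmem b)).eq, mul_inv_cancel_right,
          mul_inv_cancel]
      · exact (S : Subgroup G).mul_mem ((S : Subgroup G).mul_mem ((S : Subgroup G).mul_mem a.2 b.2)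
          ((S : Subgroup G).inv_mem a.2)) ((S : Subgroup G).inv_mem b.2)
    rw [sylow_inf_odd (CfsgLib.ZStar.odd_card_oddCore G) S, mem_bot, mul_inv_eq_one, mul_inv_eq_iff_eq_mul] at h1
    exact h1
  · right
    set W := P ⊔ E with hW
    haveI : W.Normal := Subgroup.sup_normal P E
    set M := W.comap π with hM
    haveI : M.Normal := Subgroup.Normal.comap inferInstance π
    haveI : O.Normal := CfsgLib.Core.normal_pPrimeCore 2 G
    let φ : M →* W := (π.comp M.subtype).codRestrict W fun x => x.2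
    have hφs : Function.Surjective φ := fun w => by
      obtain ⟨g, hg⟩ := hπs w
      exact ⟨⟨g, show π g ∈ W from hg ▸ w.2⟩, Subtype.ext hg⟩
    have hφk : φ.ker = O.subgroupOf M := by
      ext x
      rw [MonoidHom.mem_ker, mem_subgroupOf, ← QuotientGroup.eq_one_iff]
      exact ⟨fun h => congrArg Subtype.val h, fun h => Subtype.ext h⟩
    let Φ : (M ⧸ O.subgroupOf M) ≃* W :=
      (QuotientGroup.quotientMulEquivOfEq hφk.symm).trans (QuotientGroup.quotientKerEquivOfSurjective φ hφs)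
    have hidx : Odd W.index := by
      obtain ⟨R⟩ := (inferInstance : Nonempty (Sylow 2 (G ⧸ O)))
      rw [← Nat.not_even_iff_odd, even_iff_two_dvd]
      refine fun hd => R.not_dvd_index (hd.trans (index_dvd_of_le fun s hs => ?_))
      obtain ⟨d, hd, -, hsd⟩ := hcov R s hs
      rw [← mul_inv_cancel_right s d]
      exact mul_mem (mem_sup_right hsd) (mem_sup_left (inv_mem hd))
    refine ⟨O, M, inferInstance, inferInstance, Subgroup.normal_subgroupOf, ?_, CfsgLib.ZStar.odd_card_oddCore G,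
      by rwa [hM, index_comap_of_surjective _ hπs], (P.subgroupOf W).map Φ.symm.toMonoidHom,
      (E.subgroupOf W).map Φ.symm.toMonoidHom, ?_, ?_, ?_, ?_, ?_⟩
    · refine lt_of_le_of_ne (fun x hx => show π x ∈ W by
        rw [show π x = 1 from (QuotientGroup.eq_one_iff x).2 hx]; exact one_mem _) fun he => ?_
      have hbot : W = ⊥ := by
        rw [← Subgroup.map_comap_eq_self_of_surjective hπs W, ← hM, ← he, hπ, QuotientGroup.map_mk'_self]
      have hEb : ∀ x : E, x = 1 := fun x => Subtype.ext (mem_bot.1 (hbot ▸ mem_sup_right x.2))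
      haveI := hJs
      obtain ⟨y, hy⟩ := exists_ne (1 : J)
      obtain ⟨x, rfl⟩ := hσ y
      exact hy (by rw [hEb x, map_one])
    · refine ⟨⟨?_⟩⟩
      rintro ⟨_, x, hx, rfl⟩ ⟨_, y, hy, rfl⟩
      refine Subtype.ext ?_
      show Φ.symm x * Φ.symm y = Φ.symm y * Φ.symm x
      rw [← map_mul, ← map_mul]
      congr 1
      obtain ⟨R⟩ := (inferInstance : Nonempty (Sylow 2 (G ⧸ O)))
      exact Subtype.ext (hPc R _ (CfsgLib.Core.pCore_le_sylow R hx) _ hy).eq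
    · exact (((CfsgLib.Core.isPGroup_pCore 2 (G ⧸ O)).of_equiv
        (subgroupOfEquivOfLe (le_sup_left : P ≤ W)).symm)).map _
    · exact ⟨(((Φ.symm.subgroupMap (E.subgroupOf W)).symm).trans
        (subgroupOfEquivOfLe (le_sup_right : E ≤ W))).trans e5⟩
    · rintro _ ⟨x, hx, rfl⟩ _ ⟨y, hy, rfl⟩
      show Φ.symm x * Φ.symm y = Φ.symm y * Φ.symm x
      rw [← map_mul, ← map_mul]
      congr 1
      exact Subtype.ext (hcomm _ hx _ hy)
    · rw [← Subgroup.map_sup, ← Subgroup.subgroupOf_sup le_sup_left le_sup_right, subgroupOf_self]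
      exact Subgroup.map_top_of_surjective _ Φ.symm.surjective

/-- The unitary and Suzuki cases. -/
theorem case_rank_one (hne : ∃ S T : Sylow 2 G, S ≠ T) (hG : Hyp G) {J : Type u} [Group J]
    (hJs : IsSimpleGroup J) (hJp : commutator J = ⊤) {E : Subgroup G} [E.Normal] (hE : Group.IsPerfect E)
    (σ : E →* J) (hσ : Function.Surjective σ) (hσc : σ.ker ≤ center E)
    (hA : ∀ a : E, (a : G) ∈ Cfsg.pCore 2 G → σ a = 1)
    (hcomm : ∀ a ∈ Cfsg.pCore 2 G, ∀ e ∈ E, a * e = e * a)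
    (hcov : ∀ R : Sylow 2 G, ∀ s ∈ (R : Subgroup G), ∃ d ∈ Cfsg.pCore 2 G, s * d ∈ E)
    (hcase : IsU3 J ∨ IsSz J) :
    ∃ (M : Subgroup G), M.Normal ∧ Odd M.index ∧ ∃ A L : Subgroup G, IsMulCommutative ↥A ∧ IsPGroup 2 ↥A ∧
      ((Cfsg.IsInternalDirectProduct A L M ∧
          ((∃ (m : ℕ) (F : Type) (_ : Field F) (_ : Fintype F), 1 ≤ m ∧ Fintype.card F = 2 ^ (2 * m + 1) ∧
              Nonempty (↥L ≃* ↥(Cfsg.Lie.Sz F (2 ^ (m + 1))))) ∨
            (∃ (n : ℕ) (F : Type) (_ : Field F) (_ : Fintype F), 2 ≤ n ∧ Fintype.card F = 4 ^ n ∧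
              (Nonempty (↥L ≃* Cfsg.PSU 3 F (2 ^ n)) ∨ Nonempty (↥L ≃* ↥(Cfsg.SU 3 F (2 ^ n))))))) ∨
        (A ≤ M ∧ L ≤ M ∧ (∀ a ∈ A, ∀ l ∈ L, a * l = l * a) ∧ A ⊔ L = M ∧ Group.IsPerfect ↥L ∧
          Subgroup.center ↥L ≠ ⊥ ∧
          ∃ (F : Type) (_ : Field F) (_ : Fintype F), Fintype.card F = 8 ∧
            Nonempty (↥L ⧸ Subgroup.center ↥L ≃* ↥(Cfsg.Lie.Sz F 4)))) := by
  haveI := Fact.mk Nat.prime_two
  set A := Cfsg.pCore 2 G with hAdef
  haveI : A.Normal := CfsgLib.Core.normal_pCore 2 G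
  refine ⟨A ⊔ E, Subgroup.sup_normal A E, ?_, A, E, ?_, CfsgLib.Core.isPGroup_pCore 2 G, ?_⟩
  · obtain ⟨R⟩ := (inferInstance : Nonempty (Sylow 2 G))
    rw [← Nat.not_even_iff_odd, even_iff_two_dvd]
    refine fun hd => R.not_dvd_index (hd.trans (index_dvd_of_le fun s hs => ?_))
    obtain ⟨d, hd, hsd⟩ := hcov R s hs
    rw [← mul_inv_cancel_right s d]
    exact mul_mem (mem_sup_right hsd) (mem_sup_left (inv_mem hd))
  · obtain ⟨R⟩ := (inferInstance : Nonempty (Sylow 2 G))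
    exact ⟨⟨fun x y => Subtype.ext (hG.comm (pCore_le_meetGen hne R y.2) (CfsgLib.Core.pCore_le_sylow R x.2))⟩⟩
  · have hdirect : (∀ a : E, (a : G) ∈ A → a = 1) → Cfsg.IsInternalDirectProduct A E (A ⊔ E) := fun h1 =>
      ⟨le_sup_left, le_sup_right, hcomm, (Subgroup.eq_bot_iff_forall _).2 fun x hx =>
        congrArg Subtype.val (h1 ⟨x, hx.2⟩ hx.1), rfl⟩
    rcases hcase with hU | hS
    · obtain ⟨hodd, hex⟩ := psu_cover hE hσ hσc hU
      refine Or.inl ⟨hdirect fun a ha => ?_, Or.inr hex⟩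
      obtain ⟨i, hi⟩ := IsPGroup.iff_orderOf.1 (CfsgLib.Core.isPGroup_pCore 2 G) ⟨(a : G), ha⟩
      rw [Subgroup.orderOf_mk, Subgroup.orderOf_coe] at hi
      exact orderOf_eq_one_iff.1 (Nat.eq_one_of_dvd_coprimes ((Nat.coprime_two_left.2 hodd).pow_left i)
        (dvd_of_eq hi) (Subgroup.orderOf_dvd_natCard σ.ker (MonoidHom.mem_ker.2 (hA a ha))))
    · rcases sz_cover hJs hJp hE hσ hσc hS with ⟨hk, hex⟩ | ⟨hz, hex⟩
      · refine Or.inl ⟨hdirect fun a ha => ?_, Or.inl hex⟩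
        exact (MonoidHom.ker_eq_bot_iff σ).1 hk ((hA a ha).trans σ.map_one.symm)
      · exact Or.inr ⟨le_sup_left, le_sup_right, hcomm, rfl, hE, hz, hex⟩

/-- The structure theorem. -/
theorem structure_main
    (hCI : ∀ S T : Sylow 2 G, S ≠ T → ∃ U : Sylow 2 G,
      (S : Subgroup G) ⊓ (T : Subgroup G) ≤ (center ↥(U : Subgroup G)).map (U : Subgroup G).subtype) :
    (Group.IsSolvable G ∧ Cfsg.PLengthLE 2 1 G) ∨
    (∀ S : Sylow 2 G, IsMulCommutative ↥(S : Subgroup G)) ∨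
    (∃ (N M : Subgroup G) (_ : N.Normal) (_ : M.Normal) (_ : (N.subgroupOf M).Normal), N < M ∧
      Odd (Nat.card ↥N) ∧ Odd M.index ∧
      ∃ A L : Subgroup (↥M ⧸ N.subgroupOf M), IsMulCommutative ↥A ∧ IsPGroup 2 ↥A ∧
        Nonempty (↥L ≃* Matrix.SpecialLinearGroup (Fin 2) (ZMod 5)) ∧ (∀ a ∈ A, ∀ l ∈ L, a * l = l * a) ∧
        A ⊔ L = ⊤) ∨
    (∃ (M : Subgroup G), M.Normal ∧ Odd M.index ∧ ∃ A L : Subgroup G, IsMulCommutative ↥A ∧ IsPGroup 2 ↥A ∧
      ((Cfsg.IsInternalDirectProduct A L M ∧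
          ((∃ (m : ℕ) (F : Type) (_ : Field F) (_ : Fintype F), 1 ≤ m ∧ Fintype.card F = 2 ^ (2 * m + 1) ∧
              Nonempty (↥L ≃* ↥(Cfsg.Lie.Sz F (2 ^ (m + 1))))) ∨
            (∃ (n : ℕ) (F : Type) (_ : Field F) (_ : Fintype F), 2 ≤ n ∧ Fintype.card F = 4 ^ n ∧
              (Nonempty (↥L ≃* Cfsg.PSU 3 F (2 ^ n)) ∨ Nonempty (↥L ≃* ↥(Cfsg.SU 3 F (2 ^ n))))))) ∨
        (A ≤ M ∧ L ≤ M ∧ (∀ a ∈ A, ∀ l ∈ L, a * l = l * a) ∧ A ⊔ L = M ∧ Group.IsPerfect ↥L ∧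
          Subgroup.center ↥L ≠ ⊥ ∧
          ∃ (F : Type) (_ : Field F) (_ : Fintype F), Fintype.card F = 8 ∧
            Nonempty (↥L ⧸ Subgroup.center ↥L ≃* ↥(Cfsg.Lie.Sz F 4))))) := by
  haveI := Fact.mk Nat.prime_two
  by_cases hna : ∀ S : Sylow 2 G, IsMulCommutative ↥(S : Subgroup G)
  · exact Or.inr (Or.inl hna)
  have hG := hyp_of_CI hCI hna
  set O := Cfsg.oddCore G with hOdef
  set π := QuotientGroup.mk' O with hπ
  have hπs : Function.Surjective π := QuotientGroup.mk'_surjective O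
  have hOK : Cfsg.oddCore (G ⧸ O) = ⊥ := CfsgLib.USylow.oddCore_quot
  by_cases hneK : ∃ S T : Sylow 2 (G ⧸ O), S ≠ T
  swap
  · push Not at hneK
    obtain ⟨S⟩ := (inferInstance : Nonempty (Sylow 2 G))
    have hn : ((S : Subgroup G).map π).Normal := by
      rw [← Sylow.coe_mapSurjective hπs S]
      exact normalizer_eq_top_iff.1 (eq_top_iff.2 fun g _ =>
        Sylow.smul_eq_iff_mem_normalizer.1 (hneK _ _))
    have hcl := CfsgLib.USylow.closed_of_quotient S hn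
    exact Or.inl ⟨CfsgLib.USylow.solvable_of_closed hcl, CfsgLib.USylow.pLength_of_closed hcl⟩
  have hK : Hyp (G ⧸ O) := hG.quot_oddCore
  have hne : ∃ S T : Sylow 2 G, S ≠ T := by
    obtain ⟨S, T, hST⟩ := hneK
    obtain ⟨S', rfl⟩ := Sylow.mapSurjective_surjective hπs 2 S
    obtain ⟨T', rfl⟩ := Sylow.mapSurjective_surjective hπs 2 T
    exact ⟨S', T', fun h => hST (by rw [h])⟩
  -- the quotient with trivial intersections
  set P := Cfsg.pCore 2 (G ⧸ O) with hPdef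
  haveI : P.Normal := CfsgLib.Core.normal_pCore 2 (G ⧸ O)
  set C := centralizer (P : Set (G ⧸ O)) with hC
  haveI : C.Normal := Subgroup.normal_centralizer
  have hPc : ∀ (R : Sylow 2 (G ⧸ O)), ∀ s ∈ (R : Subgroup (G ⧸ O)), ∀ z ∈ P, Commute s z := fun R s hs z hz =>
    hK.comm (pCore_le_meetGen hneK R hz) hs
  have hRC : ∀ R : Sylow 2 (G ⧸ O), (R : Subgroup (G ⧸ O)) ≤ C := fun R s hs =>
    mem_centralizer_iff.2 fun z hz => (hPc R s hs z hz).eq.symm
  obtain ⟨S₀, T₀, hST₀⟩ := hneK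
  have hneK : ∃ S T : Sylow 2 (G ⧸ O), S ≠ T := ⟨S₀, T₀, hST₀⟩
  have hCH : Hyp C := hK.subgroup (hRC S₀)
  haveI := CfsgLib.Core.normal_pCore 2 C
  have hmapP : ∀ x : C, x ∈ Cfsg.pCore 2 C ↔ (x : G ⧸ O) ∈ P := fun x =>
    ⟨fun h => CfsgLib.Core.map_subtype_pCore_le C ⟨x, h, rfl⟩,
      fun h => CfsgLib.Core.pCore_subgroupOf_le C (mem_subgroupOf.2 h)⟩
  have hcen : Cfsg.pCore 2 C ≤ center C := fun x hx => mem_center_iff.2 fun g => Subtype.ext
    (mem_centralizer_iff.1 g.2 x ((hmapP x).1 hx)).symm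
  have hneC : ∃ A B : Sylow 2 C, A ≠ B :=
    ⟨S₀.subtype (hRC S₀), T₀.subtype (hRC T₀), fun e => hST₀ (Sylow.subtype_injective e)⟩
  obtain ⟨h1, h2, h3⟩ := hCH.quot_pCore (oddCore_normal_eq_bot hOK C) hneC hcen
  have hTI : TIGroup (C ⧸ Cfsg.pCore 2 C) := ⟨h1, h2, h3, gi _ h1 h2 h3⟩
  obtain ⟨J, hJn, -, hfam, hperf, hSJ, hgen⟩ := hTI.exists_family
  haveI hJs := CfsgLib.RankOneInter.Final.isSimple_of_family hfam
  set q := QuotientGroup.mk' (Cfsg.pCore 2 C) with hq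
  have hqs : Function.Surjective q := QuotientGroup.mk'_surjective _
  have hqker : ∀ x : C, q x = 1 ↔ (x : G ⧸ O) ∈ P := fun x => (QuotientGroup.eq_one_iff x).trans (hmapP x)
  have hall : ∀ y : C ⧸ Cfsg.pCore 2 C, (∃ i : ℕ, y ^ 2 ^ i = 1) → y ∈ J := by
    rintro y ⟨i, hi⟩
    obtain ⟨j, -, hj⟩ := (Nat.dvd_prime_pow Nat.prime_two).1 (orderOf_dvd_of_pow_eq_one hi)
    obtain ⟨R, hR⟩ := (IsPGroup.of_card (p := 2) (n := j) (G := zpowers y)
      (by rw [Nat.card_zpowers, hj])).exists_le_sylow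
    exact hSJ R (hR (mem_zpowers y))
  rcases family_cases hfam with ⟨F, iF, iFt, hF2, -, ⟨e⟩, hsq⟩ | ⟨hcase, hshape⟩
  · obtain ⟨E, hEn, hEp, hEC, σ, hσs, hσc, hσ, hEc, hcov⟩ := exists_global_cover q hqs hRC
      (fun k hk R a ha => Subtype.ext (hPc R a ha k ((hqker k).1 hk)).eq) J hJn hperf hgen hall
    haveI := hEn
    rcases case_SL_two hG hJs hperf hEp σ hσs hσc
      (fun x hx => (hqker _).1 ((hσ x).symm.trans (congrArg Subtype.val hx)))
      (fun a ha x hx => mem_centralizer_iff.1 (hEC hx) a ha) hneK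
      (fun R s hs => by
        obtain ⟨d, hd, hdR, hsd⟩ := hcov R ⟨s, hRC R hs⟩ hs
        exact ⟨d, (hqker d).1 hd, hdR, hsd⟩) e hsq with h | h
    · exact Or.inr (Or.inl h)
    · exact Or.inr (Or.inr (Or.inl h))
  -- in the other cases the Sylow subgroups centralise the odd core
  have hSCG : ∀ S : Sylow 2 G, (S : Subgroup G) ≤ C.comap π := fun S s hs =>
    hRC (S.mapSurjective hπs) (by rw [Sylow.coe_mapSurjective]; exact mem_map_of_mem π hs)
  let f : ↥(C.comap π) →* C ⧸ Cfsg.pCore 2 C := q.comp ((π.comp (C.comap π).subtype).codRestrict C fun x => x.2)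
  have hfs : Function.Surjective f := hqs.comp fun c => by
    obtain ⟨g, hg⟩ := hπs c
    exact ⟨⟨g, show π g ∈ C from hg ▸ c.2⟩, Subtype.ext hg⟩
  have hfker : ∀ x : C.comap π, f x = 1 ↔ π (x : G) ∈ P := fun x => hqker _
  have hSO : ∀ S : Sylow 2 G, (S : Subgroup G) ≤ centralizer (O : Set G) := by
    intro S
    refine (hG.centralizes_or_twoGen S (CfsgLib.ZStar.odd_card_oddCore G) ?_).resolve_right ?_
    · haveI : O.Normal := CfsgLib.Core.normal_pPrimeCore 2 G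
      rw [normalizer_eq_top]
      exact le_top
    set R := S.mapSurjective hπs with hR
    set R₁ := (R.subtype (hRC R)).mapSurjective hqs with hR₁
    set PJ := R₁.subtype (hSJ R₁) with hPJ
    have hmem : ∀ s : (S : Subgroup G), f ⟨s, hSCG S s.2⟩ ∈ (R₁ : Subgroup _) := fun s => by
      rw [hR₁, Sylow.coe_mapSurjective]
      refine mem_map_of_mem q ?_
      show (π s : G ⧸ O) ∈ (R : Subgroup (G ⧸ O))
      rw [hR, Sylow.coe_mapSurjective]
      exact mem_map_of_mem π s.2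
    let g : ↥(S : Subgroup G) →* ↥(PJ : Subgroup J) :=
      ((f.comp (Subgroup.inclusion (hSCG S))).codRestrict J fun s => hSJ R₁ (hmem s)).codRestrict _ fun s => hmem s
    have hg : Function.Surjective g := by
      rintro ⟨⟨v, hvJ⟩, hv⟩
      have hv' : v ∈ (R₁ : Subgroup _) := hv
      rw [hR₁, Sylow.coe_mapSurjective] at hv'
      obtain ⟨c, hc, rfl⟩ := hv'
      have hc' : (c : G ⧸ O) ∈ (R : Subgroup (G ⧸ O)) := hc
      rw [hR, Sylow.coe_mapSurjective] at hc'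
      obtain ⟨s, hs, hsc⟩ := hc'
      exact ⟨⟨s, hs⟩, Subtype.ext (Subtype.ext (congrArg q (Subtype.ext hsc)))⟩
    refine not_twoGen_of_big g hg (fun v => mem_center_iff.2 fun w => Subtype.ext ?_) (hshape PJ).big ?_
    · show (w : J) * ((v : J) * v) = (v : J) * v * w
      exact (hshape PJ).sq_central _ v.2 _ w.2
    · intro z hz
      refine mem_center_iff.2 fun w => ?_
      obtain ⟨s, rfl⟩ := hg w
      rw [← map_mul, ← map_mul]
      exact congrArg g (Subtype.ext (hG.comm hz s.2))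
  have hcentG : ∀ k ∈ f.ker, ∀ R : Sylow 2 G, ∀ a : C.comap π, (a : G) ∈ (R : Subgroup G) → a * k = k * a := by
    intro k hk R a ha
    have hkP := (hfker k).1 hk
    have h4 := CfsgLib.Core.pCore_le_sylow (R.mapSurjective hπs) hkP
    rw [Sylow.coe_mapSurjective] at h4
    obtain ⟨r, hr, hrk⟩ := h4
    have hc1 : Commute (π (a : G)) (π r) :=
      hPc (R.mapSurjective hπs) _ (by rw [Sylow.coe_mapSurjective]; exact mem_map_of_mem π ha) _ (hrk.symm ▸ hkP)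
    have hc2 : (a : G) * r * (a : G)⁻¹ * r⁻¹ ∈ O ⊓ (R : Subgroup G) := by
      refine ⟨(QuotientGroup.eq_one_iff _).1 (show π ((a : G) * r * (a : G)⁻¹ * r⁻¹) = 1 from ?_),
        (R : Subgroup G).mul_mem ((R : Subgroup G).mul_mem ((R : Subgroup G).mul_mem ha hr)
          ((R : Subgroup G).inv_mem ha)) ((R : Subgroup G).inv_mem hr)⟩
      rw [map_mul, map_mul, map_mul, map_inv, map_inv, hc1.eq, mul_inv_cancel_right, mul_inv_cancel]
    rw [sylow_inf_odd (CfsgLib.ZStar.odd_card_oddCore G) R, mem_bot, mul_inv_eq_one, mul_inv_eq_iff_eq_mul] at hc2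
    have ho : (k : G) * r⁻¹ ∈ O := (QuotientGroup.eq_one_iff _).1
      (show π ((k : G) * r⁻¹) = 1 by rw [map_mul, map_inv, hrk, mul_inv_cancel])
    have hc3 : Commute (a : G) ((k : G) * r⁻¹) := (mem_centralizer_iff.1 (hSO R ha) _ ho).symm
    have hc4 := hc3.mul_right (show Commute (a : G) r from hc2)
    rw [inv_mul_cancel_right] at hc4
    exact Subtype.ext hc4.eq
  obtain ⟨E, hEn, hEp, hEC, σ, hσs, hσc, hσ, hEc, hcov⟩ :=
    exists_global_cover f hfs hSCG hcentG J hJn hperf hgen hall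
  haveI := hEn
  have hAP : ∀ a ∈ Cfsg.pCore 2 G, π a ∈ P := fun a ha =>
    CfsgLib.Core.map_pCore_le π hπs (mem_map_of_mem π ha)
  obtain ⟨S₁⟩ := (inferInstance : Nonempty (Sylow 2 G))
  refine Or.inr (Or.inr (Or.inr (case_rank_one hne hG hJs hperf hEp σ hσs hσc ?_ ?_ ?_ hcase)))
  · exact fun a ha => Subtype.ext ((hσ a).trans ((hfker _).2 (hAP _ ha)))
  · intro a ha x hx
    exact (congrArg Subtype.val (hEc ⟨a, hSCG S₁ (CfsgLib.Core.pCore_le_sylow S₁ ha)⟩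
      ((hfker _).2 (hAP a ha)) ⟨x, hEC hx⟩ hx)).symm
  · intro R s hs
    obtain ⟨d, hd, hdR, hsd⟩ := hcov R ⟨s, hSCG R hs⟩ hs
    refine ⟨d, ?_, hsd⟩
    obtain ⟨i, hi⟩ := IsPGroup.iff_orderOf.1 R.isPGroup' ⟨(d : G), hdR⟩
    rw [Subgroup.orderOf_mk] at hi
    rw [CfsgLib.Core.pCore_eq_iInf_sylow, mem_iInf]
    intro R'
    refine mem_sylow_of_commute (i := i) (by rw [← hi, pow_orderOf_eq_one]) fun r hr => ?_
    exact congrArg Subtype.val (hcentG d hd R' ⟨r, hSCG R' hr⟩ hr)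

end CfsgLib.CentralMeet
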