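import Cfsg.Agent.Lib.Invol.CentralMeet.Induction

/-!
Owner: helper18. S3181: tools for the endgame.

* `exists_global_cover`: the cover of the simple group inside the whole group.
* `not_twoGen_of_big`: `S` is not two-generated in the sense of `TwoGen` when its image is large.
-/

set_option autoImplicit false
set_option linter.style.haveILetI false
set_option linter.unusedSectionVars false

namespace CfsgLib.CentralMeet

open Subgroup
open scoped commutatorElement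

universe u v

variable {G : Type u} [Group G] [Finite G]

/-- A subgroup containing a perfect group `E` modulo commuting elements has derived group `E`. -/
theorem commutator_eq_of_cover {E Ω : Subgroup G} (K : Set G) (hperf : ⁅E, E⁆ = E)
    (hE : ∀ e ∈ E, ∃ w ∈ Ω, ∃ k ∈ K, e = w * k) (hΩ : ∀ w ∈ Ω, ∃ e ∈ E, ∃ k ∈ K, w = e * k)
    (hKE : ∀ k ∈ K, ∀ e ∈ E, e * k = k * e) (hKΩ : ∀ k ∈ K, ∀ w ∈ Ω, w * k = k * w) : ⁅Ω, Ω⁆ = E := by
  have key : ∀ {a b k l : G}, k ∈ K → l ∈ K → (a ∈ E ∨ a ∈ Ω) → (b ∈ E ∨ b ∈ Ω) → (a * k ∈ E ∨ a * k ∈ Ω) →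
      ⁅a * k, b * l⁆ = ⁅a, b⁆ := by
    intro a b k l hk hl ha hb hak
    have c1 : ∀ {x j : G}, j ∈ K → (x ∈ E ∨ x ∈ Ω) → Commute x j := fun hj hx =>
      hx.elim (fun h => hKE _ hj _ h) fun h => hKΩ _ hj _ h
    have hkl : Commute k l := by
      have h1 : Commute (a⁻¹ * (a * k)) l := ((c1 hl ha).inv_left).mul_left (c1 hl hak)
      rwa [inv_mul_cancel_left] at h1
    have hal := c1 hl ha
    have hbk := c1 hk hb
    rw [commutatorElement_def, commutatorElement_def]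
    calc a * k * (b * l) * (a * k)⁻¹ * (b * l)⁻¹ = a * (k * b) * l * k⁻¹ * a⁻¹ * l⁻¹ * b⁻¹ := by group
      _ = a * b * (k * l) * k⁻¹ * a⁻¹ * l⁻¹ * b⁻¹ := by rw [← hbk.eq]; group
      _ = a * b * (l * a⁻¹) * l⁻¹ * b⁻¹ := by rw [hkl.eq]; group
      _ = _ := by rw [← (hal.inv_left).eq]; group
  refine le_antisymm ((commutator_le).2 fun x hx y hy => ?_) ?_
  · obtain ⟨a, ha, k, hk, rfl⟩ := hΩ x hx
    obtain ⟨b, hb, l, hl, rfl⟩ := hΩ y hy
    rw [key hk hl (Or.inl ha) (Or.inl hb) (Or.inr hx)]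
    exact hperf ▸ commutator_mem_commutator ha hb
  · refine hperf.ge.trans ((commutator_le).2 fun x hx y hy => ?_)
    obtain ⟨a, ha, k, hk, rfl⟩ := hE x hx
    obtain ⟨b, hb, l, hl, rfl⟩ := hE y hy
    rw [key hk hl (Or.inr ha) (Or.inr hb) (Or.inl hx)]
    exact commutator_mem_commutator ha hb

/-- The cover of `J` inside `G`, when `C` contains all 2-elements and `ker f` commutes with them. -/
theorem exists_global_cover {C : Subgroup G} {Q : Type v} [Group Q] (f : ↥C →* Q) (hf : Function.Surjective f)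
    (hC : ∀ R : Sylow 2 G, (R : Subgroup G) ≤ C)
    (hcent : ∀ k ∈ f.ker, ∀ R : Sylow 2 G, ∀ a : C, (a : G) ∈ (R : Subgroup G) → a * k = k * a)
    (J : Subgroup Q) (hJn : J.Normal) (hperf : commutator J = ⊤)
    (hgen : J ≤ closure {y | y ∈ J ∧ ∃ i : ℕ, y ^ 2 ^ i = 1})
    (hall : ∀ y : Q, (∃ i : ℕ, y ^ 2 ^ i = 1) → y ∈ J) :
    ∃ E : Subgroup G, E.Normal ∧ Group.IsPerfect E ∧ ∃ (hEC : E ≤ C) (σ : ↥E →* ↥J),
      Function.Surjective σ ∧ σ.ker ≤ center E ∧ (∀ e : E, (σ e : Q) = f ⟨e, hEC e.2⟩) ∧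
      (∀ k ∈ f.ker, ∀ e : C, (e : G) ∈ E → e * k = k * e) ∧
      ∀ (R : Sylow 2 G) (s : C), (s : G) ∈ (R : Subgroup G) →
        ∃ d ∈ f.ker, (d : G) ∈ (R : Subgroup G) ∧ ((s * d : C) : G) ∈ E := by
  haveI := Fact.mk Nat.prime_two
  have h2C : ∀ {g : G}, (∃ i : ℕ, g ^ 2 ^ i = 1) → ∃ R : Sylow 2 G, g ∈ (R : Subgroup G) := by
    rintro g ⟨i, hi⟩
    obtain ⟨j, -, hj⟩ := (Nat.dvd_prime_pow Nat.prime_two).1 (orderOf_dvd_of_pow_eq_one hi)
    obtain ⟨R, hR⟩ := (IsPGroup.of_card (p := 2) (n := j) (G := zpowers g)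
      (by rw [Nat.card_zpowers, hj])).exists_le_sylow
    exact ⟨R, hR (mem_zpowers g)⟩
  have hcent' : ∀ k ∈ f.ker, ∀ a : C, (∃ i : ℕ, a ^ 2 ^ i = 1) → a * k = k * a := by
    rintro k hk a ⟨i, hi⟩
    obtain ⟨R, hR⟩ := h2C (g := (a : G)) ⟨i, by rw [← Subgroup.coe_pow, hi, Subgroup.coe_one]⟩
    exact hcent k hk R a hR
  obtain ⟨E₀, -, hEperf, hEmap, hEc⟩ := exists_cover f hf hcent' J hJn hperf hgen
  set E := E₀.map C.subtype with hE
  have hEC : E ≤ C := map_subtype_le _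
  set W := {g : G | ∃ i : ℕ, g ^ 2 ^ i = 1} with hW
  set Ω := closure W with hΩ
  set Ker : Set G := (fun k : C => (k : G)) '' (f.ker : Set C) with hKer
  have hKΩ : ∀ k ∈ Ker, ∀ w ∈ Ω, w * k = k * w := by
    rintro _ ⟨k, hk, rfl⟩
    have hle : Ω ≤ centralizer ({(k : G)} : Set G) := (closure_le _).2 fun w hw => by
      obtain ⟨R, hR⟩ := h2C hw
      exact mem_centralizer_singleton_iff.2 (congrArg Subtype.val (hcent k hk R ⟨w, hC R hR⟩ hR))
    exact fun w hw => mem_centralizer_singleton_iff.1 (hle hw)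
  have hKE : ∀ k ∈ Ker, ∀ e ∈ E, e * k = k * e := by
    rintro _ ⟨k, hk, rfl⟩ _ ⟨e, he, rfl⟩
    exact congrArg Subtype.val (hEc k hk e he)
  have hΩC : Ω ≤ C := (closure_le _).2 fun w hw => by obtain ⟨R, hR⟩ := h2C hw; exact hC R hR
  have hΩmap : (Ω.subgroupOf C).map f = J := by
    refine le_antisymm ?_ ?_
    · rintro _ ⟨w, hw, rfl⟩
      have key : ∀ g (hg : g ∈ Ω), f ⟨g, hΩC hg⟩ ∈ J := by
        intro g hg
        induction hg using Subgroup.closure_induction with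
        | mem x hx =>
          obtain ⟨i, hi⟩ := hx
          exact hall _ ⟨i, by rw [← map_pow]; exact (congrArg f (Subtype.ext hi)).trans f.map_one⟩
        | one => exact (congrArg f (Subtype.ext rfl)).trans f.map_one ▸ one_mem _
        | mul x y hx hy h1 h2 =>
          rw [show (⟨x * y, _⟩ : C) = ⟨x, hΩC hx⟩ * ⟨y, hΩC hy⟩ from rfl, map_mul]
          exact mul_mem h1 h2
        | inv x hx h1 =>
          rw [show (⟨x⁻¹, _⟩ : C) = ⟨x, hΩC hx⟩⁻¹ from rfl, map_inv]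
          exact inv_mem h1
      exact key w (mem_subgroupOf.1 hw)
    · refine hgen.trans ((closure_le _).2 ?_)
      rintro y ⟨-, i, hi⟩
      obtain ⟨g, hg⟩ := hf y
      obtain ⟨a, b, hb, hab⟩ := Nat.exists_eq_pow_mul_and_not_dvd (orderOf_pos g).ne' 2 (by norm_num)
      have hco : Nat.Coprime b (2 ^ i) :=
        (Nat.coprime_two_right.2 (Nat.not_even_iff_odd.1 fun he => hb he.two_dvd)).pow_right i
      obtain ⟨N, hN1, hN2⟩ := Nat.chineseRemainder hco 0 1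
      refine ⟨g ^ N, mem_subgroupOf.2 (subset_closure ⟨a, ?_⟩), ?_⟩
      · obtain ⟨c, hc⟩ := Nat.modEq_zero_iff_dvd.1 hN1
        rw [← Subgroup.coe_pow, hc, ← pow_mul, show b * c * 2 ^ a = orderOf g * c by rw [hab]; ring, pow_mul,
          pow_orderOf_eq_one, one_pow, Subgroup.coe_one]
      · rw [map_pow, hg]
        have h2 : N ≡ 1 [MOD orderOf y] := hN2.of_dvd (orderOf_dvd_of_pow_eq_one hi)
        exact (pow_eq_pow_iff_modEq.2 h2).trans (pow_one y)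
  have hperfE : ⁅E, E⁆ = E := by
    haveI := hEperf
    rw [hE, ← Subgroup.map_commutator, ← map_subtype_commutator, Group.IsPerfect.commutator_eq_top,
      ← MonoidHom.range_eq_map, Subgroup.range_subtype]
  have hEeq : ⁅Ω, Ω⁆ = E := by
    refine commutator_eq_of_cover Ker hperfE ?_ ?_ hKE hKΩ
    · rintro _ ⟨e, he, rfl⟩
      obtain ⟨w, hw, hfw⟩ := (hΩmap.symm ▸ hEmap ▸ mem_map_of_mem f he : f e ∈ (Ω.subgroupOf C).map f)
      refine ⟨w, mem_subgroupOf.1 hw, _, ⟨w⁻¹ * e, ?_, rfl⟩, by simp⟩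
      rw [SetLike.mem_coe, MonoidHom.mem_ker, map_mul, map_inv, hfw, inv_mul_cancel]
    · intro w hw
      obtain ⟨e, he, hfe⟩ := (hEmap.symm ▸ hΩmap ▸ mem_map_of_mem f (mem_subgroupOf.2 hw :
        (⟨w, hΩC hw⟩ : C) ∈ Ω.subgroupOf C) : f ⟨w, hΩC hw⟩ ∈ E₀.map f)
      refine ⟨e, ⟨e, he, rfl⟩, _, ⟨e⁻¹ * ⟨w, hΩC hw⟩, ?_, rfl⟩, by simp⟩
      rw [SetLike.mem_coe, MonoidHom.mem_ker, map_mul, map_inv, hfe, inv_mul_cancel]
  haveI hΩn : Ω.Normal := by
    refine ⟨fun n hn g => ?_⟩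
    have h' : Ω.map (MulAut.conj g).toMonoidHom ≤ Ω := by
      rw [hΩ, MonoidHom.map_closure, closure_le]
      rintro _ ⟨w, ⟨i, hi⟩, rfl⟩
      refine subset_closure ⟨i, ?_⟩
      show (g * w * g⁻¹) ^ 2 ^ i = 1
      rw [conj_pow, hi, mul_one, mul_inv_cancel]
    exact h' ⟨n, hn, rfl⟩
  have hmemE : ∀ e : E, (⟨e, hEC e.2⟩ : C) ∈ E₀ := fun e => by
    obtain ⟨w, hw, he⟩ := e.2
    rwa [show (⟨e, hEC e.2⟩ : C) = w from Subtype.ext he.symm]
  let σ : E →* J := ((f.comp (Subgroup.inclusion hEC))).codRestrict J fun e =>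
    hEmap ▸ mem_map_of_mem f (hmemE e)
  refine ⟨E, hEeq ▸ commutator_normal Ω Ω, ?_, hEC, σ, ?_, ?_, fun e => rfl,
    fun k hk e he => Subtype.ext (hKE _ ⟨k, hk, rfl⟩ _ he), ?_⟩
  · refine ⟨Subgroup.map_injective E.subtype_injective ?_⟩
    rw [map_subtype_commutator, hperfE, ← MonoidHom.range_eq_map, Subgroup.range_subtype]
  · intro y
    obtain ⟨e, he, e'⟩ := (hEmap.symm ▸ y.2 : (y : Q) ∈ E₀.map f)
    exact ⟨⟨e, ⟨e, he, rfl⟩⟩, Subtype.ext e'⟩
  · intro e he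
    exact mem_center_iff.2 fun g => Subtype.ext
      (hKE _ ⟨⟨e, hEC e.2⟩, congrArg Subtype.val (MonoidHom.mem_ker.1 he), rfl⟩ _ g.2)
  · intro R s hs
    obtain ⟨i, hi⟩ := IsPGroup.iff_orderOf.1 R.isPGroup' ⟨(s : G), hs⟩
    rw [Subgroup.orderOf_mk] at hi
    have hsJ : f s ∈ J := hall _ ⟨i, by
      rw [← map_pow, ← hi, Subgroup.orderOf_coe, pow_orderOf_eq_one, map_one]⟩
    obtain ⟨e, he, hfe⟩ := (hEmap.symm ▸ hsJ : f s ∈ E₀.map f)
    set k : C := s⁻¹ * e with hk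
    have hkk : k ∈ f.ker := by rw [MonoidHom.mem_ker, hk, map_mul, map_inv, hfe, inv_mul_cancel]
    obtain ⟨a, b, hb, hab⟩ := Nat.exists_eq_pow_mul_and_not_dvd (orderOf_pos k).ne' 2 (by norm_num)
    have hco : Nat.Coprime b (2 ^ i) :=
      (Nat.coprime_two_right.2 (Nat.not_even_iff_odd.1 fun he => hb he.two_dvd)).pow_right i
    obtain ⟨N, hN1, hN2⟩ := Nat.chineseRemainder hco 0 1
    have hd2 : ((k ^ N : C) : G) ^ 2 ^ a = 1 := by
      obtain ⟨c, hc⟩ := Nat.modEq_zero_iff_dvd.1 hN1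
      rw [← Subgroup.coe_pow, hc, ← pow_mul, show b * c * 2 ^ a = orderOf k * c by rw [hab]; ring, pow_mul,
        pow_orderOf_eq_one, one_pow, Subgroup.coe_one]
    have hdR : ((k ^ N : C) : G) ∈ (R : Subgroup G) := mem_sylow_of_commute hd2 fun r hr =>
      congrArg Subtype.val (hcent (k ^ N) (f.ker.pow_mem hkk N) R ⟨r, hC R hr⟩ hr)
    refine ⟨k ^ N, f.ker.pow_mem hkk N, hdR, ⟨e ^ N, E₀.pow_mem he N, ?_⟩⟩
    have hsk : Commute s k := hcent k hkk R s hs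
    have h1 : e ^ N = s ^ N * k ^ N := by rw [← hsk.mul_pow, hk, mul_inv_cancel_left]
    have h2 : N ≡ 1 [MOD orderOf s] := by rw [← Subgroup.orderOf_coe, hi]; exact hN2
    rw [h1, (pow_eq_pow_iff_modEq.2 h2).trans (pow_one s)]
    rfl

/-- A large image rules out two generators. -/
theorem not_twoGen_of_big {S : Sylow 2 G} {V : Type v} [Group V] [Finite V] (g : ↥(S : Subgroup G) →* V)
    (hg : Function.Surjective g) (hsq : ∀ v : V, v * v ∈ center V) (hbig : 8 ≤ (center V).index)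
    (hZ : ∀ z : ↥(S : Subgroup G), (z : G) ∈ meetGen S → g z ∈ center V) : ¬ TwoGen S := by
  classical
  rintro ⟨C₀, hC, hgen⟩
  set π := QuotientGroup.mk' (center V) with hπ
  haveI : Fintype (V ⧸ center V) := Fintype.ofFinite _
  have hπ0 : ∀ {e : G} (he : e ∈ C₀), π (g ⟨e, meetGen_le S (hC he)⟩) = 1 := fun he =>
    (QuotientGroup.eq_one_iff _).2 (hZ _ (hC he))
  have hpow : ∀ (a : ↥(S : Subgroup G)) (i : ℤ), π (g a) ^ i = 1 ∨ π (g a) ^ i = π (g a) := fun a i => by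
    have h2 : π (g a) * π (g a) = 1 := by
      rw [← map_mul]; exact (QuotientGroup.eq_one_iff _).2 (hsq _)
    rcases Int.even_or_odd i with ⟨j, rfl⟩ | ⟨j, rfl⟩
    · left; rw [← two_mul, zpow_mul, zpow_two, h2, one_zpow]
    · right; rw [zpow_add, zpow_mul, zpow_two, h2, one_zpow, one_mul, zpow_one]
  have hsub : ∃ a b : V ⧸ center V, ∀ v, v ∈ ({1, a, b, b * a} : Finset (V ⧸ center V)) := by
    rcases hgen with ⟨a, ha, hgen⟩ | ⟨a, ha, x, hx, -, -, hgen⟩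
    · refine ⟨π (g ⟨a, ha⟩), 1, fun v => ?_⟩
      obtain ⟨v, rfl⟩ := QuotientGroup.mk'_surjective _ v
      obtain ⟨s, rfl⟩ := hg v
      obtain ⟨i, hi⟩ := hgen s s.2
      have h1 : s = (⟨a, ha⟩ : ↥(S : Subgroup G)) ^ i * ⟨_, meetGen_le S (hC hi)⟩ := Subtype.ext (by simp)
      rw [h1, map_mul, map_mul, hπ0 hi, mul_one, map_zpow, map_zpow]
      rcases hpow ⟨a, ha⟩ i with h | h <;> rw [h] <;> simp
    · refine ⟨π (g ⟨a, ha⟩), π (g ⟨x, hx⟩), fun v => ?_⟩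
      obtain ⟨v, rfl⟩ := QuotientGroup.mk'_surjective _ v
      obtain ⟨s, rfl⟩ := hg v
      obtain ⟨i, hi | hi⟩ := hgen s s.2
      · have h1 : s = (⟨a, ha⟩ : ↥(S : Subgroup G)) ^ i * ⟨_, meetGen_le S (hC hi)⟩ := Subtype.ext (by simp)
        rw [h1, map_mul, map_mul, hπ0 hi, mul_one, map_zpow, map_zpow]
        rcases hpow ⟨a, ha⟩ i with h | h <;> rw [h] <;> simp
      · have h1 : s = ⟨x, hx⟩ * (⟨a, ha⟩ : ↥(S : Subgroup G)) ^ i * ⟨_, meetGen_le S (hC hi)⟩ :=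
          Subtype.ext (by simp [mul_assoc])
        rw [h1, map_mul, map_mul, hπ0 hi, mul_one, map_mul, map_mul, map_zpow, map_zpow]
        rcases hpow ⟨a, ha⟩ i with h | h <;> rw [h] <;> simp [hπ]
  obtain ⟨a, b, hab⟩ := hsub
  have h1 := Finset.card_le_card (fun v _ => hab v : Finset.univ ⊆ _)
  rw [Finset.card_univ, ← Nat.card_eq_fintype_card, ← Subgroup.index_eq_card] at h1
  have h2 := h1.trans Finset.card_le_four
  omega

end CfsgLib.CentralMeet
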