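import Cfsg.Agent.Lib.Invol.CentralMeet.Kernel

/-!
Owner: helper18. S3181: without odd and 2-core, Sylow 2-subgroups with central intersections meet trivially.

* `gi`: the theorem, by induction on the order.
-/

set_option autoImplicit false
set_option linter.style.haveILetI false
set_option linter.unusedSectionVars false

namespace CfsgLib.CentralMeet

open Subgroup
open CfsgLib.Bender (benderGen)

universe u

variable {G : Type u} [Group G] [Finite G]

theorem gi_step (hG : Hyp G) (hO : Cfsg.oddCore G = ⊥) (hP : Cfsg.pCore 2 G = ⊥) (IH : Below G)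
    (S T : Sylow 2 G) (hne : S ≠ T) : (S : Subgroup G) ⊓ (T : Subgroup G) = ⊥ := by
  haveI := Fact.mk Nat.prime_two
  by_contra hD
  set D := (S : Subgroup G) ⊓ (T : Subgroup G) with hDdef
  have hDp : IsPGroup 2 D := S.isPGroup'.to_le inf_le_left
  -- every Sylow subgroup through a nontrivial element of `D` has `D` as its only intersection
  have hK : ∀ R : Sylow 2 G, ∀ x ∈ D, x ≠ 1 → x ∈ (R : Subgroup G) → meetGen R = D := by
    intro R x hx hx1 hxR
    by_cases h : R = S
    · exact h ▸ hG.meetGen_eq hO hP IH hne hD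
    · have h1 : (S : Subgroup G) ⊓ (T : Subgroup G) = (S : Subgroup G) ⊓ (R : Subgroup G) :=
        hG.meet_eq hO hP IH hne (Ne.symm h) hx1 hx.1 hx.2 hxR
      have h2 : (R : Subgroup G) ⊓ (S : Subgroup G) = D := by rw [inf_comm, ← h1]
      rw [hG.meetGen_eq hO hP IH h (by rw [h2]; exact hD), h2]
  set H := normalizer (D : Set G) with hH
  have hSH : (S : Subgroup G) ≤ H :=
    (hG.le_centralizer_inf hne inf_le_left).trans (centralizer_le_normalizer _)
  have hTH : (T : Subgroup G) ≤ H :=
    (hG.le_centralizer_inf hne inf_le_right).trans (centralizer_le_normalizer _)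
  obtain ⟨u, huD, hu1⟩ := (Subgroup.bot_or_exists_ne_one D).resolve_left hD
  have hinH : ∀ R : Sylow 2 G, (R : Subgroup G) ≤ H → meetGen R = D := fun R hR => by
    have hp : IsPGroup 2 (((R : Subgroup G) ⊔ D : Subgroup G)) :=
      R.isPGroup'.to_sup_of_normal_right' hDp hR
    have hDR : D ≤ (R : Subgroup G) := le_sup_right.trans (R.is_maximal' hp le_sup_left).le
    exact hK R u huD hu1 (hDR huD)
  have hHtop : H ≠ ⊤ := fun e => by
    haveI : D.Normal := normalizer_eq_top_iff.1 e
    exact hD (le_bot_iff.1 (hP ▸ le_sSup ⟨inferInstance, hDp⟩))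
  have hsyl : ∀ w ∈ H, orderOf w = 2 → ∃ R : Sylow 2 G, (R : Subgroup G) ≤ H ∧ w ∈ (R : Subgroup G) := by
    intro w hw hw2
    obtain ⟨R', hR'⟩ := (IsPGroup.of_card (p := 2) (n := 1) (G := zpowers (⟨w, hw⟩ : H))
      (by rw [Nat.card_zpowers, Subgroup.orderOf_mk, hw2, pow_one])).exists_le_sylow
    obtain ⟨R, hR⟩ := exists_sylow_eq_map hSH R'
    exact ⟨R, hR ▸ map_subtype_le _, hR ▸ ⟨_, hR' (mem_zpowers _), rfl⟩⟩
  have hSE : Cfsg.IsStronglyEmbedded H := by
    refine ⟨hHtop, ?_, fun g hg => ?_⟩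
    · obtain ⟨z, hz, hz2, -⟩ := hG.exists_central_involution S
      exact even_iff_two_dvd.2 (hz2.symm.dvd.trans (Subgroup.orderOf_dvd_natCard _ (hSH hz)))
    · rw [← Nat.not_even_iff_odd]
      intro hev
      obtain ⟨w, ⟨hw, v, hv, rfl⟩, hw2⟩ := CfsgLib.Signalizer.exists_involution_of_even hev
      have hw2' : orderOf v = 2 := by
        have h0 : orderOf (g * v * g⁻¹) = 2 := hw2
        rwa [CfsgLib.Signalizer.orderOf_conj] at h0
      obtain ⟨R₀, hR₀, hvR⟩ := hsyl v hv hw2'
      obtain ⟨R, hR, hwR⟩ := hsyl _ hw hw2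
      have hwR' := conj_mem_smul (g := g) hvR
      have hkey : meetGen (g • R₀) = D := by
        by_cases h : g • R₀ = R
        · rw [h]; exact hinH R hR
        · have h1 : g * v * g⁻¹ ∈ meetGen R := inf_le_meetGen h ⟨hwR, hwR'⟩
          rw [hinH R hR] at h1
          exact hK (g • R₀) _ h1 (CfsgLib.Signalizer.involution_ne_one hw2) hwR'
      have h2 := map_conj_meetGen_le g R₀
      rw [hkey, hinH R₀ hR₀] at h2
      have h3 : D.map (MulAut.conj g).toMonoidHom = D := eq_of_le_of_card_ge h2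
        (Subgroup.card_map_of_injective (MulAut.conj g).injective).ge
      exact hg (mem_normalizer_iff_map_conj_eq.2 h3)
  -- Bender's theorem gives `H` only one Sylow subgroup
  obtain ⟨z, hz, hz2, hzc⟩ := hG.exists_central_involution S
  obtain ⟨x, hx, hx2, hxz⟩ := hG.exists_second_involution hO hP S hz hz2 hzc
  have hfour : ∃ s ∈ H, ∃ t ∈ H, orderOf s = 2 ∧ orderOf t = 2 ∧ s ≠ t ∧ s * t = t * s :=
    ⟨x, hSH hx, z, hSH hz, hx2, hz2, hxz, hzc x hx⟩
  have hcore : H.normalCore = ⊥ := le_bot_iff.1 (hO ▸ CfsgLib.Bender.normalCore_le_oddCore hSE)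
  obtain ⟨hBS, hsol⟩ := benderGen G H hSE hfour
  obtain ⟨U, hUa, hUn, -, -, hU, -⟩ := hBS.exists_regular (CfsgLib.Bender.smallerOK _)
    (CfsgLib.Bender.faithful_of_core hcore) _ hsol
  rw [CfsgLib.Bender.stab_base] at hUa hUn
  let Us : Sylow 2 G := Sylow.ofCard U hU
  have hall : ∀ R : Sylow 2 G, (R : Subgroup G) ≤ H → R = Us := fun R hR => by
    have hp : IsPGroup 2 (((R : Subgroup G) ⊔ U : Subgroup G)) :=
      R.isPGroup'.to_sup_of_normal_right' Us.isPGroup' (hR.trans hUn)
    exact (Sylow.ext (Us.is_maximal' R.isPGroup' (le_sup_right.trans (R.is_maximal' hp le_sup_left).le))) 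
  exact hne ((hall S hSH).trans (hall T hTH).symm)

/-- The trivial intersection theorem. -/
theorem gi (G : Type u) [Group G] [Finite G] : GI G := by
  suffices h : ∀ (n : ℕ) (G : Type u) [Group G] [Finite G], Nat.card G = n → GI G from h _ G rfl
  intro n
  induction n using Nat.strong_induction_on with
  | _ n ih =>
    intro G _ _ hn hG hO hP S T hne
    exact gi_step hG hO hP (fun K _ _ hK => ih _ (hn ▸ hK) K rfl) S T hne

end CfsgLib.CentralMeet
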