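import Cfsg.Agent.Lib.Invol.CentralMeet.TIFacts
import Cfsg.Agent.Lib.Invol.CentralMeet.Average

/-!
Owner: helper18. S3181: all nontrivial intersections in a Sylow 2-subgroup are equal.

* `Wide S T`: what the quotient of `C(S ⊓ T)` gives when `meetGen S` is larger than `S ⊓ T`.
* `Hyp.meetGen_eq`: in a minimal counterexample `meetGen S = S ⊓ T`.
-/

set_option autoImplicit false
set_option linter.style.haveILetI false
set_option linter.unusedSectionVars false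

namespace CfsgLib.CentralMeet

open Subgroup

universe u

variable {G : Type u} [Group G] [Finite G]

/-- The consequences of `meetGen S ≠ S ⊓ T`. -/
structure Wide (S T : Sylow 2 G) : Prop where
  sq_mem : ∀ x ∈ (S : Subgroup G), x * x ∈ meetGen S
  exp : ∀ z ∈ meetGen S, z * z ∈ (S : Subgroup G) ⊓ (T : Subgroup G)
  sq_out : ∃ x ∈ (S : Subgroup G), x * x ∉ (S : Subgroup G) ⊓ (T : Subgroup G)
  move : ∀ w ∈ meetGen S, w ∉ (S : Subgroup G) ⊓ (T : Subgroup G) →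
    ∀ z ∈ meetGen S, z ∉ (S : Subgroup G) ⊓ (T : Subgroup G) →
    ∃ n ∈ normalizer (S : Set G), n ∈ centralizer (((S : Subgroup G) ⊓ (T : Subgroup G) : Subgroup G) : Set G) ∧
      (n * w * n⁻¹)⁻¹ * z ∈ (S : Subgroup G) ⊓ (T : Subgroup G)
  two : ∀ w ∈ meetGen S, w ∉ (S : Subgroup G) ⊓ (T : Subgroup G) →
    ∃ z ∈ meetGen S, z ∉ (S : Subgroup G) ⊓ (T : Subgroup G) ∧ w⁻¹ * z ∉ (S : Subgroup G) ⊓ (T : Subgroup G)
  indep : ∃ x ∈ (S : Subgroup G), ∃ y ∈ (S : Subgroup G), ∃ w ∈ (S : Subgroup G), x ∉ meetGen S ∧ y ∉ meetGen S ∧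
    w ∉ meetGen S ∧ x * y ∉ meetGen S ∧ x * w ∉ meetGen S ∧ y * w ∉ meetGen S ∧ x * (y * w) ∉ meetGen S
  cases : (∀ x ∈ (S : Subgroup G), ∀ y ∈ (S : Subgroup G), x ∉ meetGen S → y ∉ meetGen S →
      ∃ n ∈ normalizer (S : Set G), n ∈ centralizer (((S : Subgroup G) ⊓ (T : Subgroup G) : Subgroup G) : Set G) ∧
        (n * x * n⁻¹)⁻¹ * y ∈ meetGen S) ∨
    ∃ E : Subgroup G, E ⊓ ((S : Subgroup G) ⊓ (T : Subgroup G)) = ⊥ ∧
      ∀ s ∈ (S : Subgroup G), ∃ d ∈ (S : Subgroup G) ⊓ (T : Subgroup G), s * d ∈ E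

/-- A 2-element centralised by a Sylow subgroup lies in it. -/
theorem mem_sylow_of_commute {S : Sylow 2 G} {k : G} {i : ℕ} (hk : k ^ 2 ^ i = 1)
    (hc : ∀ s ∈ (S : Subgroup G), s * k = k * s) : k ∈ (S : Subgroup G) := by
  haveI := Fact.mk Nat.prime_two
  obtain ⟨j, -, hj⟩ := (Nat.dvd_prime_pow Nat.prime_two).1 (orderOf_dvd_of_pow_eq_one hk)
  have hp : IsPGroup 2 (zpowers k) := IsPGroup.of_card (n := j) (by rw [Nat.card_zpowers, hj])
  have h' : k ∈ zpowers k ⊓ normalizer (S : Set G) :=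
    ⟨mem_zpowers k, centralizer_le_normalizer _ (mem_centralizer_iff.2 hc)⟩
  rw [hp.inf_normalizer_sylow S] at h'
  exact h'.2

namespace Hyp

variable (hG : Hyp G)
include hG

theorem wide_or_eq (hO : Cfsg.oddCore G = ⊥) (hP : Cfsg.pCore 2 G = ⊥) (IH : Below G)
    {S T : Sylow 2 G} (hST : S ≠ T) (hD : (S : Subgroup G) ⊓ (T : Subgroup G) ≠ ⊥) :
    meetGen S = (S : Subgroup G) ⊓ (T : Subgroup G) ∨ Wide S T := by
  haveI := Fact.mk Nat.prime_two
  obtain ⟨L, hL, hSL, hTL, Q, iQ, iQf, f, hf, hQ, hOQ, hPQ, hTI, hmem, hker, -, hcent⟩ :=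
    hG.exists_local hO hP IH hST hD
  have h : TIGroup Q := ⟨hQ, hOQ, hPQ, hTI⟩
  set D := (S : Subgroup G) ⊓ (T : Subgroup G) with hDdef
  have hDZ : D ≤ meetGen S := inf_le_meetGen hST.symm
  by_cases hle : meetGen S ≤ D
  · exact Or.inl (le_antisymm hle hDZ)
  refine Or.inr ?_
  set Z := meetGen S with hZ
  have hZS : Z ≤ (S : Subgroup G) := meetGen_le S
  obtain ⟨w₀, hw₀, hw₀D⟩ := SetLike.not_le_iff_exists.1 hle
  set Sq := (S.subtype hSL).mapSurjective hf with hSq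
  have hfS : ∀ {x : L}, (x : G) ∈ (S : Subgroup G) → f x ∈ (Sq : Subgroup Q) := fun hx => by
    rw [hSq, Sylow.coe_mapSurjective]; exact mem_map_of_mem f (mem_subgroupOf.2 hx)
  have hfS' : ∀ {y : Q}, y ∈ (Sq : Subgroup Q) → ∃ x : L, (x : G) ∈ (S : Subgroup G) ∧ f x = y := fun {y} hy => by
    rw [hSq, Sylow.coe_mapSurjective] at hy
    obtain ⟨x, hx, e⟩ := hy
    exact ⟨x, mem_subgroupOf.1 hx, e⟩
  have hlift : ∀ n ∈ normalizer (Sq : Set Q), ∃ m : L, f m = n ∧ (m : G) ∈ normalizer (S : Set G) := by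
    intro n hn
    obtain ⟨m, rfl⟩ := hf n
    refine ⟨m, rfl, Sylow.smul_eq_iff_mem_normalizer.1 ?_⟩
    have hmS : (((m : G) • S : Sylow 2 G) : Subgroup G) ≤ L := fun x hx => by
      have h1 := mul_mem (mul_mem m.2 (hSL (mem_smul_sylow.1 hx))) (inv_mem m.2)
      simpa [mul_assoc] using h1
    refine (Sylow.ext (((m : G) • S).is_maximal' S.isPGroup' fun x hx => ?_)).symm
    refine hmem ((m : G) • S) S hmS hSL ⟨x, hmS hx⟩ hx ?_
    have h1 : f (m⁻¹ * ⟨x, hmS hx⟩ * m) ∈ (Sq : Subgroup Q) := hfS (mem_smul_sylow.1 hx)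
    have h2 := (mem_normalizer_iff.1 hn _).1 h1
    rw [hSq, Sylow.coe_mapSurjective] at h2
    rwa [map_mul, map_mul, map_inv, show f m * ((f m)⁻¹ * f ⟨x, hmS hx⟩ * f m) * (f m)⁻¹ = f ⟨x, hmS hx⟩ by group]
      at h2
  have hcomm : ∀ m : L, (m : G) ∈ centralizer (D : Set G) := fun m => hL ▸ m.2
  -- membership
  have hfeq : ∀ {x y : L}, (x : G) ∈ (S : Subgroup G) → (y : G) ∈ (S : Subgroup G) → f x = f y →
      (x : G)⁻¹ * y ∈ D := fun {x y} hx hy e =>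
    (hker (x⁻¹ * y) (mul_mem (inv_mem hx) hy)).1 (by rw [map_mul, map_inv, e, inv_mul_cancel])
  have hf1 : ∀ {x : L}, (x : G) ∈ (S : Subgroup G) → ((x : G) ∈ D ↔ f x = 1) := fun hx => (hker _ hx).symm
  have hfZc : ∀ {x : L}, (x : G) ∈ Z → ∀ y ∈ (Sq : Subgroup Q), y * f x = f x * y := fun {x} hx y hy => by
    obtain ⟨v, hv, rfl⟩ := hfS' hy
    rw [← map_mul, ← map_mul]
    exact congrArg f (Subtype.ext (hG.comm hx hv))
  rcases h.sylow_cases Sq with hexp | ⟨hshape, hcase⟩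
  · -- exponent two
    exfalso
    obtain ⟨s, hs, hsZ⟩ := hG.proper S
    have hinv : ∀ {x : L}, (x : G) ∈ (S : Subgroup G) → (x : G) ∉ D → orderOf (f x) = 2 := fun hx hxD =>
      orderOf_eq_prime (by rw [pow_two]; exact hexp _ (hfS hx)) fun e => hxD ((hf1 hx).2 e)
    obtain ⟨n, hn, he⟩ := h.conj_involutions (hfS (x := ⟨w₀, hSL (hZS hw₀)⟩) (hZS hw₀))
      (hinv (hZS hw₀) hw₀D) (hfS (x := ⟨s, hSL hs⟩) hs) (hinv hs fun h => hsZ (hDZ h))
    obtain ⟨m, rfl, hm⟩ := hlift n hn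
    have hz : (m : G) * w₀ * (m : G)⁻¹ ∈ Z := conj_mem_meetGen hm hw₀
    have h1 := hfeq (x := m * ⟨w₀, hSL (hZS hw₀)⟩ * m⁻¹) (y := ⟨s, hSL hs⟩) (hZS hz) hs
      (by rw [map_mul, map_mul, map_inv, he])
    refine hsZ ?_
    have := mul_mem hz (hDZ h1)
    simpa [mul_assoc] using this
  -- the wide case
  have hexpZ : ∀ z ∈ Z, z * z ∈ D := fun z hz => by
    have h1 := hshape.central_sq _ (hfS (x := ⟨z, hSL (hZS hz)⟩) (hZS hz)) (hfZc hz)
    rw [← map_mul] at h1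
    exact (hf1 (x := ⟨z, hSL (hZS hz)⟩ * ⟨z, hSL (hZS hz)⟩) (hZS (mul_mem hz hz))).2 h1
  have hw₀inv : orderOf (f ⟨w₀, hSL (hZS hw₀)⟩) = 2 := orderOf_eq_prime (by
    rw [pow_two]; exact hshape.central_sq _ (hfS (hZS hw₀)) (hfZc hw₀))
    fun e => hw₀D ((hf1 (hZS hw₀)).2 e)
  -- elements with involutory or trivial image lie in `Z`
  have hmemZ : ∀ {x : L}, (x : G) ∈ (S : Subgroup G) → f x * f x = 1 → (x : G) ∈ Z := fun {x} hx hxx => by
    by_cases hx1 : f x = 1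
    · exact hDZ ((hf1 hx).2 hx1)
    obtain ⟨n, hn, he⟩ := h.conj_involutions (hfS (hZS hw₀)) hw₀inv (hfS hx)
      (orderOf_eq_prime (by rw [pow_two]; exact hxx) hx1)
    obtain ⟨m, rfl, hm⟩ := hlift n hn
    have hz : (m : G) * w₀ * (m : G)⁻¹ ∈ Z := conj_mem_meetGen hm hw₀
    have h1 := hfeq (x := m * ⟨w₀, hSL (hZS hw₀)⟩ * m⁻¹) (y := x) (hZS hz) hx
      (by rw [map_mul, map_mul, map_inv, he])
    have := mul_mem hz (hDZ h1)
    simpa [mul_assoc] using this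
  have hcentZ : ∀ {x : L}, (x : G) ∈ (S : Subgroup G) → (∀ y ∈ (Sq : Subgroup Q), y * f x = f x * y) →
      (x : G) ∈ Z := fun hx hc => hmemZ hx (hshape.central_sq _ (hfS hx) hc)
  have hsq : ∀ x ∈ (S : Subgroup G), x * x ∈ Z := fun x hx =>
    hcentZ (x := ⟨x, hSL hx⟩ * ⟨x, hSL hx⟩) ((S : Subgroup G).mul_mem hx hx) fun y hy => by
      rw [map_mul]; exact hshape.sq_central _ (hfS hx) y hy
  refine ⟨hsq, hexpZ, ?_, ?_, ?_, ?_, ?_⟩
  · by_contra hall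
    push Not at hall
    have hall' : ∀ y ∈ (Sq : Subgroup Q), y * y = 1 := fun y hy => by
      obtain ⟨x, hx, rfl⟩ := hfS' hy
      rw [← map_mul]
      exact (hf1 (x := x * x) (mul_mem hx hx)).1 (hall _ hx)
    have htop : center (Sq : Subgroup Q) = ⊤ := eq_top_iff.2 fun y _ => mem_center_iff.2 fun r => Subtype.ext (by
      by_cases hy1 : (y : Q) = 1
      · show (r : Q) * y = y * r
        rw [hy1, mul_one, one_mul]
      · exact h.central y.2 (orderOf_eq_prime (by rw [pow_two]; exact hall' _ y.2) hy1) r.2)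
    have := hshape.big
    rw [htop, index_top] at this
    omega
  · intro w hw hwD z hz hzD
    have hi : ∀ {v : G} (hv : v ∈ Z), v ∉ D → orderOf (f ⟨v, hSL (hZS hv)⟩) = 2 := fun {v} hv hvD =>
      orderOf_eq_prime (by rw [pow_two]; exact hshape.central_sq _ (hfS (hZS hv)) (hfZc hv))
        fun e => hvD ((hf1 (hZS hv)).2 e)
    obtain ⟨n, hn, he⟩ := h.conj_involutions (hfS (hZS hw)) (hi hw hwD) (hfS (hZS hz)) (hi hz hzD)
    obtain ⟨m, rfl, hm⟩ := hlift n hn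
    exact ⟨m, hm, hcomm m, hfeq (x := m * ⟨w, hSL (hZS hw)⟩ * m⁻¹) (y := ⟨z, hSL (hZS hz)⟩)
      (hZS (conj_mem_meetGen hm hw)) (hZS hz) (by rw [map_mul, map_mul, map_inv, he])⟩
  · intro w hw hwD
    obtain ⟨a, ha, b, hb, ha2, hb2, hab⟩ := h.two_involutions Sq
    obtain ⟨c, hc, hc2, hne⟩ : ∃ c ∈ (Sq : Subgroup Q), orderOf c = 2 ∧ c ≠ f ⟨w, hSL (hZS hw)⟩ := by
      by_cases h1 : a = f ⟨w, hSL (hZS hw)⟩
      · exact ⟨b, hb, hb2, fun e => hab (h1.trans e.symm)⟩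
      · exact ⟨a, ha, ha2, h1⟩
    obtain ⟨x, hx, rfl⟩ := hfS' hc
    refine ⟨x, hmemZ hx (CfsgLib.Signalizer.involution_sq hc2), fun hD' =>
      CfsgLib.Signalizer.involution_ne_one hc2 ((hf1 hx).1 hD'), fun hD' => hne ?_⟩
    have h1 := (hf1 (x := ⟨w, hSL (hZS hw)⟩⁻¹ * x) (mul_mem (inv_mem (hZS hw)) hx)).1 hD'
    rw [map_mul, map_inv, inv_mul_eq_one] at h1
    exact h1.symm
  · classical
    set C := center (Sq : Subgroup Q) with hC
    haveI : Fintype ((Sq : Subgroup Q) ⧸ C) := Fintype.ofFinite _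
    have hcard : 8 ≤ Fintype.card ((Sq : Subgroup Q) ⧸ C) := by
      rw [← Nat.card_eq_fintype_card, ← Subgroup.index_eq_card]; exact hshape.big
    have pick : ∀ s : Finset ((Sq : Subgroup Q) ⧸ C), s.card < 8 → ∃ a, a ∉ s := fun s hs => by
      by_contra hall
      push Not at hall
      have := Finset.card_le_card (fun a _ => hall a : Finset.univ ⊆ s)
      rw [Finset.card_univ] at this
      omega
    have hout : ∀ (x : L) (hx : (x : G) ∈ (S : Subgroup G)),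
        ((⟨f x, hfS hx⟩ : (Sq : Subgroup Q)) : (Sq : Subgroup Q) ⧸ C) ≠ 1 → (x : G) ∉ Z := by
      intro x hx hne hZ'
      exact hne ((QuotientGroup.eq_one_iff _).2 (mem_center_iff.2 fun y => Subtype.ext (hfZc hZ' y y.2)))
    have hex : ∀ a : (Sq : Subgroup Q) ⧸ C, ∃ (x : L) (hx : (x : G) ∈ (S : Subgroup G)),
        ((⟨f x, hfS hx⟩ : (Sq : Subgroup Q)) : (Sq : Subgroup Q) ⧸ C) = a := fun a => by
      obtain ⟨⟨y, hy⟩, rfl⟩ := QuotientGroup.mk'_surjective C a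
      obtain ⟨x, hx, rfl⟩ := hfS' hy
      exact ⟨x, hx, rfl⟩
    obtain ⟨a, ha⟩ := pick {1} (by simp)
    obtain ⟨b, hb⟩ := pick {1, a, a⁻¹} (lt_of_le_of_lt (Finset.card_le_three) (by norm_num))
    obtain ⟨c, hc⟩ := pick {1, a⁻¹, b⁻¹, b⁻¹ * a⁻¹} (lt_of_le_of_lt (Finset.card_le_four) (by norm_num))
    simp only [Finset.mem_insert, Finset.mem_singleton, not_or] at ha hb hc
    obtain ⟨x, hx, rfl⟩ := hex a
    obtain ⟨y, hy, rfl⟩ := hex b
    obtain ⟨w, hw, rfl⟩ := hex c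
    have hm : ∀ (p q : L) (hp : (p : G) ∈ (S : Subgroup G)) (hq : (q : G) ∈ (S : Subgroup G)),
        ((⟨f (p * q), hfS ((S : Subgroup G).mul_mem hp hq)⟩ : (Sq : Subgroup Q)) : (Sq : Subgroup Q) ⧸ C) =
          ((⟨f p, hfS hp⟩ : (Sq : Subgroup Q)) : (Sq : Subgroup Q) ⧸ C) *
            ((⟨f q, hfS hq⟩ : (Sq : Subgroup Q)) : (Sq : Subgroup Q) ⧸ C) := fun p q hp hq => by
      rw [← QuotientGroup.mk_mul]
      exact congrArg _ (Subtype.ext (map_mul f p q))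
    refine ⟨x, hx, y, hy, w, hw, hout x hx ha, hout y hy hb.1, hout w hw hc.1, ?_, ?_, ?_, ?_⟩
    · refine hout (x * y) (mul_mem hx hy) ?_
      rw [hm x y hx hy]
      exact fun e => hb.2.2 (eq_inv_of_mul_eq_one_right e)
    · refine hout (x * w) (mul_mem hx hw) ?_
      rw [hm x w hx hw]
      exact fun e => hc.2.1 (eq_inv_of_mul_eq_one_right e)
    · refine hout (y * w) (mul_mem hy hw) ?_
      rw [hm y w hy hw]
      exact fun e => hc.2.2.1 (eq_inv_of_mul_eq_one_right e)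
    · refine hout (x * (y * w)) (mul_mem hx (mul_mem hy hw)) ?_
      rw [hm x (y * w) hx (mul_mem hy hw), hm y w hy hw, ← mul_assoc]
      exact fun e => hc.2.2.2 (by rw [eq_inv_of_mul_eq_one_right e, mul_inv_rev])
  · rcases hcase with htr | ⟨J, hJn, hodd, hperf, hSJ, hgen⟩
    · refine Or.inl fun x hx y hy hxZ hyZ => ?_
      have hnc : ∀ {v : G} (hv : v ∈ (S : Subgroup G)), v ∉ Z →
          ∃ r ∈ (Sq : Subgroup Q), r * f ⟨v, hSL hv⟩ ≠ f ⟨v, hSL hv⟩ * r := fun {v} hv hvZ => by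
        by_contra hall
        push Not at hall
        exact hvZ (hcentZ (x := ⟨v, hSL hv⟩) hv hall)
      obtain ⟨n, hn, hc⟩ := htr _ (hfS (x := ⟨x, hSL hx⟩) hx) _ (hfS (x := ⟨y, hSL hy⟩) hy) (hnc hx hxZ) (hnc hy hyZ)
      obtain ⟨m, rfl, hm⟩ := hlift n hn
      refine ⟨m, hm, hcomm m, hcentZ (x := (m * ⟨x, hSL hx⟩ * m⁻¹)⁻¹ * ⟨y, hSL hy⟩)
        (mul_mem (inv_mem ((mem_normalizer_iff.1 hm x).1 hx)) hy) fun r hr => ?_⟩
      rw [map_mul, map_inv, map_mul, map_mul, map_inv]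
      exact hc r hr
    · have hcent' : ∀ k ∈ f.ker, ∀ a : L, (∃ i : ℕ, a ^ 2 ^ i = 1) → a * k = k * a := by
        rintro k hk a ⟨i, hi⟩
        obtain ⟨j, -, hj⟩ := (Nat.dvd_prime_pow Nat.prime_two).1 (orderOf_dvd_of_pow_eq_one hi)
        obtain ⟨R, hR⟩ := (IsPGroup.of_card (p := 2) (n := j) (G := zpowers a)
          (by rw [Nat.card_zpowers, hj])).exists_le_sylow
        obtain ⟨A, hA⟩ := exists_sylow_eq_map hSL R
        exact hcent k hk A (hA ▸ map_subtype_le _) a (hA ▸ ⟨a, hR (mem_zpowers a), rfl⟩)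
      obtain ⟨E, hEn, hEperf, hEmap, hEc⟩ := exists_cover f hf hcent' J hJn hperf hgen
      let σ : E →* J := (f.comp E.subtype).codRestrict J fun e => hEmap ▸ mem_map_of_mem f e.2
      have hσk : ∀ e : E, σ e = 1 ↔ f (e : L) = 1 := fun e =>
        ⟨fun h => congrArg Subtype.val h, fun h => Subtype.ext h⟩
      have hσ : Function.Surjective σ := fun y => by
        obtain ⟨e, he, e'⟩ := (hEmap.symm ▸ y.2 : (y : Q) ∈ E.map f)
        exact ⟨⟨e, he⟩, Subtype.ext e'⟩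
      have hk : Odd (Nat.card σ.ker) := hodd E σ hEperf hσ fun e he => mem_center_iff.2 fun g =>
        Subtype.ext (hEc e ((hσk e).1 he) g g.2)
      refine Or.inr ⟨E.map L.subtype, ?_, fun s hs => ?_⟩
      · refine (Subgroup.eq_bot_iff_forall _).2 fun d hd => ?_
        obtain ⟨e, he, rfl⟩ := hd.1
        have h1 : (⟨e, he⟩ : E) ∈ σ.ker := (hσk _).2 ((hf1 (inf_le_left (a := (S : Subgroup G)) hd.2)).1 hd.2)
        obtain ⟨i, hi⟩ := IsPGroup.iff_orderOf.1 S.isPGroup' ⟨_, hd.2.1⟩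
        rw [Subgroup.orderOf_mk] at hi
        have h2 : orderOf (e : G) ∣ Nat.card σ.ker := by
          have := Subgroup.orderOf_dvd_natCard σ.ker h1
          rwa [Subgroup.orderOf_mk, ← Subgroup.orderOf_coe] at this
        exact orderOf_eq_one_iff.1 (Nat.eq_one_of_dvd_coprimes ((Nat.coprime_two_left.2 hk).pow_left i)
          (dvd_of_eq hi) h2)
      · obtain ⟨e, he, hfe⟩ := (hEmap.symm ▸ hSJ (hfS (x := ⟨s, hSL hs⟩) hs) : f ⟨s, hSL hs⟩ ∈ E.map f)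
        set k : L := ⟨s, hSL hs⟩⁻¹ * e with hk'
        have hkk : k ∈ f.ker := by
          rw [MonoidHom.mem_ker, hk', map_mul, map_inv, hfe, inv_mul_cancel]
        obtain ⟨i, hi⟩ := IsPGroup.iff_orderOf.1 S.isPGroup' ⟨s, hs⟩
        rw [Subgroup.orderOf_mk] at hi
        obtain ⟨a, b, hb, hab⟩ := Nat.exists_eq_pow_mul_and_not_dvd (orderOf_pos k).ne' 2 (by norm_num)
        have hco : Nat.Coprime b (2 ^ i) :=
          (Nat.coprime_two_right.2 (Nat.not_even_iff_odd.1 fun he => hb he.two_dvd)).pow_right i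
        obtain ⟨N, hN1, hN2⟩ := Nat.chineseRemainder hco 0 1
        have hsk : Commute (⟨s, hSL hs⟩ : L) k := hcent k hkk S hSL _ hs
        have hd2 : ((k ^ N : L) : G) ^ 2 ^ a = 1 := by
          obtain ⟨c, hc⟩ := Nat.modEq_zero_iff_dvd.1 hN1
          rw [← Subgroup.coe_pow, hc, ← pow_mul, show b * c * 2 ^ a = orderOf k * c by rw [hab]; ring, pow_mul,
            pow_orderOf_eq_one, one_pow, Subgroup.coe_one]
        have hdS : ((k ^ N : L) : G) ∈ (S : Subgroup G) := mem_sylow_of_commute hd2 fun r hr =>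
          congrArg Subtype.val (hcent (k ^ N) (f.ker.pow_mem hkk N) S hSL ⟨r, hSL hr⟩ hr)
        refine ⟨_, (hker (k ^ N) hdS).1 (f.ker.pow_mem hkk N), ⟨e ^ N, E.pow_mem he N, ?_⟩⟩
        have h1 : e ^ N = ⟨s, hSL hs⟩ ^ N * k ^ N := by
          rw [← hsk.mul_pow, hk', mul_inv_cancel_left]
        show ((e ^ N : L) : G) = s * ((k ^ N : L) : G)
        rw [h1, Subgroup.coe_mul, Subgroup.coe_pow]
        congr 1
        have h2 : N ≡ 1 [MOD orderOf s] := hi.symm ▸ hN2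
        exact (pow_eq_pow_iff_modEq.2 h2).trans (pow_one s)

/-- The squares of `S` meet the intersection trivially. -/
theorem sq_inf_eq_bot {S T : Sylow 2 G} (hST : S ≠ T) (hW : Wide S T) (hZ2 : ∀ z ∈ meetGen S, z * z = 1) :
    closure {y | ∃ x ∈ (S : Subgroup G), x * x = y} ⊓ ((S : Subgroup G) ⊓ (T : Subgroup G)) = ⊥ := by
  set D := (S : Subgroup G) ⊓ (T : Subgroup G) with hDdef
  set Z := meetGen S with hZdef
  have hDZ : D ≤ Z := inf_le_meetGen hST.symm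
  have hZc : ∀ z ∈ Z, ∀ y ∈ Z, z * y = y * z := fun z hz y hy => hG.comm hy (meetGen_le S hz)
  have hZS : ∀ s ∈ (S : Subgroup G), ∀ z ∈ Z, s * z = z * s := fun s hs z hz => hG.comm hz hs
  rcases hW.cases with htr | ⟨E, hED, hdec⟩
  swap
  · refine le_bot_iff.1 (le_trans (inf_le_inf_right D ((closure_le _).2 ?_)) hED.le)
    rintro _ ⟨x, hx, rfl⟩
    obtain ⟨d, hd, hxd⟩ := hdec x hx
    have h1 := hZS x hx d (hDZ hd)
    have h2 : x * d * (x * d) = x * x := by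
      rw [mul_assoc, ← mul_assoc d x d, ← h1, mul_assoc, hZ2 d (hDZ hd), mul_one]
    exact h2 ▸ E.mul_mem hxd hxd
  · obtain ⟨W, hWZ, hWD, hsup⟩ := exists_complement hZc hZ2 hDZ
    set M := normalizer (S : Set G) ⊓ centralizer (D : Set G) with hM
    have hMZ : M ≤ normalizer (Z : Set G) := fun m hm => mem_normalizer_iff.2 fun z =>
      ⟨fun hz => conj_mem_meetGen hm.1 hz, fun hz => by
        simpa [mul_assoc] using conj_mem_meetGen (inv_mem hm.1) hz⟩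
    have hSM : (S : Subgroup G) ≤ M := le_inf le_normalizer (hG.le_centralizer_inf hST inf_le_left)
    obtain ⟨ρ, hρD, hρm, hρd, hρc⟩ := exists_average hZc hZ2 hDZ hWZ hWD hsup hMZ
      (fun m hm => centralizer_le_normalizer _ hm.2) hSM hZS
    -- the quadratic map
    obtain ⟨x, hx, y, hy, w, hw, hxZ, hyZ, hwZ, hxyZ, hxwZ, hywZ, hxywZ⟩ := hW.indep
    have hconst : ∀ a ∈ (S : Subgroup G), a ∉ Z → ∀ b ∈ (S : Subgroup G), b ∉ Z → ρ (a * a) = ρ (b * b) := by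
      intro a ha haZ b hb hbZ
      obtain ⟨n, hn, hnD, hz⟩ := htr a ha b hb haZ hbZ
      set z := (n * a * n⁻¹)⁻¹ * b with hzdef
      have haa := hW.sq_mem a ha
      have hna : n * a * n⁻¹ ∈ (S : Subgroup G) := (mem_normalizer_iff.1 hn a).1 ha
      have h1 : b * b = n * (a * a) * n⁻¹ := by
        have hb' : b = n * a * n⁻¹ * z := by rw [hzdef, mul_inv_cancel_left]
        rw [hb', mul_assoc (n * a * n⁻¹) z, ← mul_assoc z, ← hZS _ hna z hz, mul_assoc _ z z, hZ2 z hz, mul_one]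
        group
      rw [h1, hρc n ⟨hn, hnD⟩ _ haa, mem_centralizer_iff.1 hnD _ (hρD _ haa) |>.symm, mul_inv_cancel_right]
    set c := ρ (x * x) with hc
    have hcD : c ∈ D := hρD _ (hW.sq_mem x hx)
    have hcc : c * c = 1 := hZ2 c (hDZ hcD)
    have hk : ∀ p ∈ (S : Subgroup G), ∀ q ∈ (S : Subgroup G), q * p * q⁻¹ * p⁻¹ ∈ Z ∧
        (p * q) * (p * q) = p * p * (q * q) * (q * p * q⁻¹ * p⁻¹) := by
      intro p hp q hq
      have hqp : (q * p * q⁻¹ * p⁻¹) = (q * q) * ((q⁻¹ * p) * (q⁻¹ * p)) * (p⁻¹ * p⁻¹) := by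
        have h1 := hZS q hq _ (hW.sq_mem (q⁻¹ * p) ((S : Subgroup G).mul_mem ((S : Subgroup G).inv_mem hq) hp))
        calc q * p * q⁻¹ * p⁻¹ = q * (q * ((q⁻¹ * p) * (q⁻¹ * p))) * (p⁻¹ * p⁻¹) := by group
          _ = _ := by group
      have hkZ : q * p * q⁻¹ * p⁻¹ ∈ Z := hqp ▸ Z.mul_mem (Z.mul_mem (hW.sq_mem q hq)
        (hW.sq_mem _ ((S : Subgroup G).mul_mem ((S : Subgroup G).inv_mem hq) hp)))
        (hW.sq_mem p⁻¹ ((S : Subgroup G).inv_mem hp))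
      refine ⟨hkZ, ?_⟩
      set k := q * p * q⁻¹ * p⁻¹ with hkdef
      have hqp' : q * p = k * p * q := by rw [hkdef]; group
      rw [show p * q * (p * q) = p * (q * p) * q by group, hqp', ← mul_assoc, ← mul_assoc p k, hZS p hp k hkZ]
      rw [show k * p * p * q * q = k * (p * p * (q * q)) by group]
      exact hZc k hkZ _ (Z.mul_mem (hW.sq_mem p hp) (hW.sq_mem q hq))
    have hbeta : ∀ p ∈ (S : Subgroup G), ∀ q ∈ (S : Subgroup G), p ∉ Z → q ∉ Z → p * q ∉ Z →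
        ρ (q * p * q⁻¹ * p⁻¹) = c := by
      intro p hp q hq hpZ hqZ hpqZ
      obtain ⟨hkZ, he⟩ := hk p hp q hq
      have h1 := hconst _ ((S : Subgroup G).mul_mem hp hq) hpqZ x hx hxZ
      rw [he, hρm _ (Z.mul_mem (hW.sq_mem p hp) (hW.sq_mem q hq)) _ hkZ,
        hρm _ (hW.sq_mem p hp) _ (hW.sq_mem q hq), hconst p hp hpZ x hx hxZ, hconst q hq hqZ x hx hxZ,
        ← hc, hcc, one_mul] at h1
      exact h1
    have hc1 : c = 1 := by
      have hyw := (S : Subgroup G).mul_mem hy hw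
      have h1 := hbeta x hx (y * w) hyw hxZ hywZ hxywZ
      obtain ⟨hyxZ, -⟩ := hk x hx y hy
      obtain ⟨hwxZ, -⟩ := hk x hx w hw
      have h2 : y * w * x * (y * w)⁻¹ * x⁻¹ = (w * x * w⁻¹ * x⁻¹) * (y * x * y⁻¹ * x⁻¹) := by
        set k := w * x * w⁻¹ * x⁻¹ with hkdef
        calc y * w * x * (y * w)⁻¹ * x⁻¹ = y * k * (x * y⁻¹ * x⁻¹) := by rw [hkdef]; group
          _ = k * y * (x * y⁻¹ * x⁻¹) := by rw [hZS y hy k hwxZ]
          _ = _ := by group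
      rw [h2, hρm _ hwxZ _ hyxZ, hbeta x hx w hw hxZ hwZ hxwZ, hbeta x hx y hy hxZ hyZ hxyZ, hcc] at h1
      exact h1.symm
    have hρ1 : ρ 1 = 1 := hρd 1 (one_mem _)
    let K : Subgroup G :=
      { carrier := {z | z ∈ Z ∧ ρ z = 1}
        one_mem' := ⟨one_mem _, hρ1⟩
        mul_mem' := fun {a b} ha hb => ⟨mul_mem ha.1 hb.1, by rw [hρm a ha.1 b hb.1, ha.2, hb.2, one_mul]⟩
        inv_mem' := fun {a} ha => ⟨inv_mem ha.1, by rw [inv_eq_of_mul_eq_one_right (hZ2 a ha.1)]; exact ha.2⟩ }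
    have hle : closure {y | ∃ a ∈ (S : Subgroup G), a * a = y} ≤ K := by
      refine (closure_le _).2 ?_
      rintro _ ⟨a, ha, rfl⟩
      refine ⟨hW.sq_mem a ha, ?_⟩
      by_cases haZ : a ∈ Z
      · rw [hZ2 a haZ, hρ1]
      · rw [hconst a ha haZ x hx hxZ, ← hc, hc1]
    refine (Subgroup.eq_bot_iff_forall _).2 fun d hd => ?_
    rw [← hρd d hd.2, (hle hd.1).2]

/-- All nontrivial intersections inside `S` are equal. -/
theorem meetGen_eq (hO : Cfsg.oddCore G = ⊥) (hP : Cfsg.pCore 2 G = ⊥) (IH : Below G)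
    {S T : Sylow 2 G} (hST : S ≠ T) (hD : (S : Subgroup G) ⊓ (T : Subgroup G) ≠ ⊥) :
    meetGen S = (S : Subgroup G) ⊓ (T : Subgroup G) := by
  refine (hG.wide_or_eq hO hP IH hST hD).resolve_right fun hW => ?_
  set D₁ := (S : Subgroup G) ⊓ (T : Subgroup G) with hD₁
  set Z := meetGen S with hZdef
  have hle : ¬ Z ≤ D₁ := fun h => by
    obtain ⟨z, hz, hzD⟩ := hW.sq_out
    exact hzD (h (hW.sq_mem z hz))
  -- a second intersection
  obtain ⟨R, hSR, hR⟩ : ∃ R : Sylow 2 G, S ≠ R ∧ ¬ (S : Subgroup G) ⊓ (R : Subgroup G) ≤ D₁ := by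
    by_contra hall
    push Not at hall
    exact hle (iSup₂_le fun R hR => hall R (Ne.symm hR))
  set D₂ := (S : Subgroup G) ⊓ (R : Subgroup G) with hD₂
  have hD2 : D₂ ≠ ⊥ := fun h => hR (h ▸ bot_le)
  have hdisj : D₁ ⊓ D₂ = ⊥ := by
    refine (Subgroup.eq_bot_iff_forall _).2 fun u hu => ?_
    by_contra hu1
    exact hR (hG.meet_eq hO hP IH hST hSR hu1 hu.1.1 hu.1.2 hu.2.2).ge
  have hW₂ : Wide S R := (hG.wide_or_eq hO hP IH hSR hD2).resolve_left fun h => by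
    have h1 : D₁ ≤ D₁ ⊓ D₂ := le_inf le_rfl ((inf_le_meetGen hST.symm).trans h.le)
    rw [hdisj, le_bot_iff] at h1
    exact hD h1
  have hZ2 : ∀ z ∈ Z, z * z = 1 := fun z hz => mem_bot.1 (hdisj ▸ ⟨hW.exp z hz, hW₂.exp z hz⟩)
  have hZc : ∀ z ∈ Z, ∀ y ∈ Z, z * y = y * z := fun z hz y hy => hG.comm hy (meetGen_le S hz)
  set A := closure {y | ∃ x ∈ (S : Subgroup G), x * x = y} with hA
  have hA1 := hG.sq_inf_eq_bot hST hW hZ2
  have hA2 := hG.sq_inf_eq_bot hSR hW₂ hZ2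
  have hAZ : A ≤ Z := (closure_le _).2 fun y ⟨x, hx, e⟩ => e ▸ hW.sq_mem x hx
  have hAn : normalizer (S : Set G) ≤ normalizer (A : Set G) := by
    have hstep : ∀ n ∈ normalizer (S : Set G), ∀ a ∈ A, n * a * n⁻¹ ∈ A := fun n hn a ha => by
      have h : A.map (MulAut.conj n).toMonoidHom ≤ A := by
        rw [hA, MonoidHom.map_closure, closure_le]
        rintro _ ⟨y, ⟨x, hx, rfl⟩, rfl⟩
        exact subset_closure ⟨n * x * n⁻¹, (mem_normalizer_iff.1 hn x).1 hx, by simp [mul_assoc]⟩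
      exact h ⟨a, ha, rfl⟩
    exact fun n hn => mem_normalizer_iff.2 fun a => ⟨hstep n hn a, fun ha => by
      simpa [mul_assoc] using hstep n⁻¹ (inv_mem hn) _ ha⟩
  have hsup : ∀ z ∈ Z, ∃ a ∈ A, ∃ d ∈ D₁, z = a * d := fun z hz => by
    by_cases hzD : z ∈ D₁
    · exact ⟨1, one_mem _, z, hzD, (one_mul z).symm⟩
    obtain ⟨x, hx, hxD⟩ := hW.sq_out
    obtain ⟨n, hn, -, hd⟩ := hW.move _ (hW.sq_mem x hx) hxD z hz hzD
    exact ⟨n * (x * x) * n⁻¹, (mem_normalizer_iff.1 (hAn hn) _).1 (subset_closure ⟨x, hx, rfl⟩), _, hd,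
      (mul_inv_cancel_left _ _).symm⟩
  obtain ⟨ρ, hρA, hρm, hρid, hρc⟩ := exists_average (S := S) hZc hZ2 hAZ (inf_le_meetGen hST.symm : D₁ ≤ Z)
    (by rw [inf_comm]; exact hA1) hsup
    (fun n hn => mem_normalizer_iff.2 fun z => ⟨fun hz => conj_mem_meetGen hn hz, fun hz => by
      simpa [mul_assoc] using conj_mem_meetGen (inv_mem hn) hz⟩)
    hAn le_normalizer fun s hs z hz => hG.comm hz hs
  have hkill : ∀ {R' : Sylow 2 G}, S ≠ R' → Wide S R' →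
      A ⊓ ((S : Subgroup G) ⊓ (R' : Subgroup G)) = ⊥ → ∀ d ∈ (S : Subgroup G) ⊓ (R' : Subgroup G), ρ d = 1 := by
    intro R' hne hW' hA' d hd
    by_contra h1
    set a := ρ d with ha
    have hdZ : d ∈ Z := inf_le_meetGen hne.symm hd
    have haA : a ∈ A := hρA d hdZ
    have hout : a ∉ (S : Subgroup G) ⊓ (R' : Subgroup G) := fun h => h1 (mem_bot.1 (hA' ▸ ⟨haA, h⟩))
    obtain ⟨z, hz, hzD, hne'⟩ := hW'.two a (hAZ haA) hout
    obtain ⟨n, hn, hnD, hnz⟩ := hW'.move a (hAZ haA) hout z hz hzD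
    have h2 : n * a * n⁻¹ = a := by
      rw [ha, ← hρc n hn d hdZ, ← mem_centralizer_iff.1 hnD d hd, mul_inv_cancel_right]
    exact hne' (h2 ▸ hnz)
  refine hR fun u hu => ?_
  obtain ⟨a, ha, d, hd, he⟩ := hsup u (inf_le_meetGen hSR.symm hu)
  have h1 := hkill hSR hW₂ hA2 u hu
  rw [he, hρm a (hAZ ha) d (inf_le_meetGen hST.symm hd), hρid a ha, hkill hST hW hA1 d hd, mul_one] at h1
  rw [he, h1, one_mul]
  exact hd


end Hyp

end CfsgLib.CentralMeet
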