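import Cfsg.Agent.Lib.Invol.CentralMeet.OddPart
import Cfsg.Agent.Lib.OddLocal.Final.OddOrder

/-!
Owner: helper18. S3181: the intersection pattern in a minimal counterexample.

* `core_meet`: without odd core, two Sylow 2-subgroups meet in the 2-core.
* `Hyp.meet_eq`: two intersections inside `S` with a common nontrivial element are equal.
* `Hyp.exists_local`: the centraliser of an intersection `D` has a quotient with trivial intersections.
-/

set_option autoImplicit false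
set_option linter.style.haveILetI false
set_option linter.unusedSectionVars false

namespace CfsgLib.CentralMeet

open Subgroup

universe u

/-- The theorem to prove: without odd and 2-core, two Sylow 2-subgroups meet trivially. -/
def GI (G : Type u) [Group G] : Prop :=
  Hyp G → Cfsg.oddCore G = ⊥ → Cfsg.pCore 2 G = ⊥ →
    ∀ S T : Sylow 2 G, S ≠ T → (S : Subgroup G) ⊓ (T : Subgroup G) = ⊥

/-- The theorem for the smaller groups. -/
def Below (G : Type u) : Prop :=
  ∀ (K : Type u) [Group K] [Finite K], Nat.card K < Nat.card G → GI K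

variable {G : Type u} [Group G] [Finite G]

theorem core_meet (hG : Hyp G) (hO : Cfsg.oddCore G = ⊥)
    (IH : ∀ (K : Type u) [Group K] [Finite K], Nat.card K ≤ Nat.card G → GI K)
    {S T : Sylow 2 G} (hne : S ≠ T) : (S : Subgroup G) ⊓ (T : Subgroup G) = Cfsg.pCore 2 G := by
  haveI := Fact.mk Nat.prime_two
  refine le_antisymm ?_ (le_inf (CfsgLib.HallGen.pCore_le_sylow S) (CfsgLib.HallGen.pCore_le_sylow T))
  haveI := CfsgLib.HallGen.pCore_normal' (G := G) 2
  set P := Cfsg.pCore 2 G with hP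
  set C := centralizer (P : Set G) with hC
  haveI : C.Normal := Subgroup.normal_centralizer
  have hSC : ∀ R : Sylow 2 G, (R : Subgroup G) ≤ C := fun R s hs => mem_centralizer_iff.2 fun z hz =>
    (hG.comm (pCore_le_meetGen ⟨S, T, hne⟩ R hz) hs).symm
  have hCH : Hyp C := hG.subgroup (hSC S)
  haveI := CfsgLib.HallGen.pCore_normal' (G := C) 2
  have hmapP : ∀ x : C, x ∈ Cfsg.pCore 2 C ↔ (x : G) ∈ P := fun x =>
    ⟨fun h => CfsgLib.Core.map_subtype_pCore_le C ⟨x, h, rfl⟩,
      fun h => CfsgLib.Core.pCore_subgroupOf_le C (mem_subgroupOf.2 h)⟩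
  have hcen : Cfsg.pCore 2 C ≤ center C := fun x hx => mem_center_iff.2 fun g => Subtype.ext
    (mem_centralizer_iff.1 g.2 x ((hmapP x).1 hx)).symm
  have hne' : S.subtype (hSC S) ≠ T.subtype (hSC T) := fun e => hne (Sylow.subtype_injective e)
  obtain ⟨h1, h2, h3⟩ := hCH.quot_pCore (oddCore_normal_eq_bot hO C) ⟨_, _, hne'⟩ hcen
  set π := QuotientGroup.mk' (Cfsg.pCore 2 C) with hπ
  have hsurj : Function.Surjective π := QuotientGroup.mk'_surjective _
  have hmem : ∀ (R : Sylow 2 G) (x : C), π x ∈ ((R.subtype (hSC R)).mapSurjective hsurj : Subgroup _) →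
      (x : G) ∈ (R : Subgroup G) := by
    intro R x hx
    rw [Sylow.coe_mapSurjective] at hx
    obtain ⟨r, hr, e⟩ := hx
    have h4 : r⁻¹ * x ∈ Cfsg.pCore 2 C := (QuotientGroup.eq_one_iff _).1
      (show π (r⁻¹ * x) = 1 by rw [map_mul, map_inv, e, inv_mul_cancel])
    have := (R : Subgroup G).mul_mem (mem_subgroupOf.1 hr) (CfsgLib.HallGen.pCore_le_sylow R ((hmapP _).1 h4))
    simpa using this
  have hne'' : (S.subtype (hSC S)).mapSurjective hsurj ≠ (T.subtype (hSC T)).mapSurjective hsurj := fun e =>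
    hne (Sylow.ext ((S.is_maximal' T.isPGroup' fun s hs => hmem T ⟨s, hSC S hs⟩ (by
      rw [← e, Sylow.coe_mapSurjective]
      exact mem_map_of_mem π (mem_subgroupOf.2 hs))).symm))
  have hTI := IH _ ((Nat.card_le_card_of_surjective π hsurj).trans C.card_le_card_group) h1 h2 h3 _ _ hne''
  intro x hx
  have h4 : π ⟨x, hSC S hx.1⟩ ∈ ((S.subtype (hSC S)).mapSurjective hsurj : Subgroup _) ⊓
      ((T.subtype (hSC T)).mapSurjective hsurj : Subgroup _) := by
    rw [Sylow.coe_mapSurjective, Sylow.coe_mapSurjective]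
    exact ⟨mem_map_of_mem π (mem_subgroupOf.2 hx.1), mem_map_of_mem π (mem_subgroupOf.2 hx.2)⟩
  rw [hTI, mem_bot] at h4
  exact (hmapP _).1 ((QuotientGroup.eq_one_iff _).1 h4)

/-- A 2-element which is the product of a 2-element and a commuting element of odd order. -/
theorem eq_one_of_commute_odd {S T : Sylow 2 G} {t o : G} (ht : t ∈ (T : Subgroup G))
    (hto : t * o ∈ (S : Subgroup G)) (ho : Odd (orderOf o)) (hc : Commute t o) : o = 1 := by
  obtain ⟨i, hi⟩ := T.isPGroup' ⟨t, ht⟩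
  obtain ⟨j, hj⟩ := S.isPGroup' ⟨t * o, hto⟩
  have hi' : t ^ 2 ^ i = 1 := congrArg Subtype.val hi
  have hj' : (t * o) ^ 2 ^ j = 1 := congrArg Subtype.val hj
  have h : o ^ 2 ^ (i + j) = 1 := by
    have h1 : (t * o) ^ 2 ^ (i + j) = 1 := by rw [pow_add, mul_comm, pow_mul, hj', one_pow]
    have h2 : t ^ 2 ^ (i + j) = 1 := by rw [pow_add, pow_mul, hi', one_pow]
    rwa [hc.mul_pow, h2, one_mul] at h1
  exact orderOf_eq_one_iff.1 (Nat.eq_one_of_dvd_coprimes ((Nat.coprime_two_left.2 ho).pow_left (i + j))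
    (orderOf_dvd_of_pow_eq_one h) dvd_rfl)

theorem centralizer_ne_top (hP : Cfsg.pCore 2 G = ⊥) {D : Subgroup G} (hD : IsPGroup 2 D) (hne : D ≠ ⊥) :
    centralizer (D : Set G) ≠ ⊤ := fun h => hne (by
  haveI : D.Normal := ⟨fun d hd g => by
    rw [← mem_centralizer_iff.1 (h ▸ mem_top g : g ∈ centralizer (D : Set G)) d hd, mul_inv_cancel_right]
    exact hd⟩
  exact le_bot_iff.1 (hP ▸ le_sSup ⟨inferInstance, hD⟩))

namespace Hyp

variable (hG : Hyp G)
include hG

/-- In a subgroup containing Sylow subgroups, the image modulo the odd core determines membership. -/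
theorem mem_of_image (hO : Cfsg.oddCore G = ⊥) (hP : Cfsg.pCore 2 G = ⊥) {L : Subgroup G}
    {S T : Sylow 2 G} (hS : (S : Subgroup G) ≤ L) (hT : (T : Subgroup G) ≤ L) {x : L}
    (hx : (x : G) ∈ (S : Subgroup G))
    (hxT : QuotientGroup.mk' (Cfsg.oddCore L) x ∈ ((T : Subgroup G).subgroupOf L).map (QuotientGroup.mk' _)) :
    (x : G) ∈ (T : Subgroup G) := by
  obtain ⟨t, ht, e⟩ := hxT
  have ho : t⁻¹ * x ∈ Cfsg.oddCore L := QuotientGroup.eq.1 e
  set Q := (Cfsg.oddCore L).map L.subtype with hQdef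
  have hQ : Odd (Nat.card Q) := (CfsgLib.ZStar.odd_card_oddCore L).of_dvd_nat (Subgroup.card_map_dvd _ _)
  have hn : (T : Subgroup G) ≤ normalizer (Q : Set G) := fun r hr => mem_normalizer_iff.2 fun q =>
    ⟨fun ⟨w, hw, e⟩ => ⟨⟨r, hT hr⟩ * w * ⟨r, hT hr⟩⁻¹,
        (inferInstance : (Cfsg.oddCore L).Normal).conj_mem w hw _, by simp [← e]⟩,
      fun ⟨w, hw, e⟩ => ⟨⟨r, hT hr⟩⁻¹ * w * ⟨r, hT hr⟩, by
        simpa using (inferInstance : (Cfsg.oddCore L).Normal).conj_mem w hw ⟨r, hT hr⟩⁻¹, by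
        simp only [L.coe_subtype, Subgroup.coe_mul, Subgroup.coe_inv] at e ⊢
        rw [e]; group⟩⟩
  have hcen := hG.le_centralizer_of_odd hO hP T hQ hn (mem_subgroupOf.1 ht)
  set o : G := (t : G)⁻¹ * x with hodef
  have hoQ : o ∈ Q := ⟨t⁻¹ * x, ho, rfl⟩
  have hc : Commute (t : G) o := (mem_centralizer_iff.1 hcen o hoQ).symm
  have ho1 : Odd (orderOf o) := hQ.of_dvd_nat (Subgroup.orderOf_dvd_natCard Q hoQ)
  have h1 := eq_one_of_commute_odd (S := S) (mem_subgroupOf.1 ht)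
    (by rw [hodef, mul_inv_cancel_left]; exact hx) ho1 hc
  rw [hodef, inv_mul_eq_one] at h1
  exact h1 ▸ mem_subgroupOf.1 ht

/-- In a proper subgroup, the intersections with a Sylow subgroup are all equal. -/
theorem meet_eq_of_le (hO : Cfsg.oddCore G = ⊥) (hP : Cfsg.pCore 2 G = ⊥) (IH : Below G) {L : Subgroup G}
    (hL : L ≠ ⊤) {S T R : Sylow 2 G} (hS : (S : Subgroup G) ≤ L) (hT : (T : Subgroup G) ≤ L)
    (hR : (R : Subgroup G) ≤ L) (hST : S ≠ T) (hSR : S ≠ R) :
    (S : Subgroup G) ⊓ (T : Subgroup G) ≤ (R : Subgroup G) := by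
  haveI := Fact.mk Nat.prime_two
  set π := QuotientGroup.mk' (Cfsg.oddCore L) with hπ
  have hsurj : Function.Surjective π := QuotientGroup.mk'_surjective _
  have hK : Hyp (L ⧸ Cfsg.oddCore L) := (hG.subgroup hS).quot_oddCore
  have hOK : Cfsg.oddCore (L ⧸ Cfsg.oddCore L) = ⊥ := CfsgLib.Core.pPrimeCore_quotient_pPrimeCore 2 L
  have hcard : Nat.card (L ⧸ Cfsg.oddCore L) < Nat.card G :=
    (Nat.card_le_card_of_surjective π hsurj).trans_lt (lt_of_le_of_ne L.card_le_card_group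
      fun e => hL (Subgroup.eq_top_of_card_eq L e))
  have hdist : ∀ {A : Sylow 2 G} (hA : (A : Subgroup G) ≤ L), S ≠ A →
      (S.subtype hS).mapSurjective hsurj ≠ (A.subtype hA).mapSurjective hsurj := fun {A} hA hne e =>
    hne (Sylow.ext ((S.is_maximal' A.isPGroup' fun s hs => hG.mem_of_image hO hP hS hA (x := ⟨s, hS hs⟩) hs (by
      have h1 : π ⟨s, hS hs⟩ ∈ ((S.subtype hS).mapSurjective hsurj : Subgroup _) := by
        rw [Sylow.coe_mapSurjective]; exact mem_map_of_mem π (mem_subgroupOf.2 hs)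
      rw [e, Sylow.coe_mapSurjective] at h1
      exact h1)).symm))
  have h1 := core_meet hK hOK (fun K _ _ hle => IH K (hle.trans_lt hcard)) (hdist hT hST)
  intro x hx
  have h2 : π ⟨x, hS hx.1⟩ ∈ Cfsg.pCore 2 (L ⧸ Cfsg.oddCore L) := by
    rw [← h1, Sylow.coe_mapSurjective, Sylow.coe_mapSurjective]
    exact ⟨mem_map_of_mem π (mem_subgroupOf.2 hx.1), mem_map_of_mem π (mem_subgroupOf.2 hx.2)⟩
  have h3 := CfsgLib.HallGen.pCore_le_sylow ((R.subtype hR).mapSurjective hsurj) h2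
  rw [Sylow.coe_mapSurjective] at h3
  exact hG.mem_of_image hO hP hS hR (x := ⟨x, hS hx.1⟩) hx.1 h3

/-- Two intersections inside `S` with a common nontrivial element are equal. -/
theorem meet_eq (hO : Cfsg.oddCore G = ⊥) (hP : Cfsg.pCore 2 G = ⊥) (IH : Below G) {S T R : Sylow 2 G}
    (hST : S ≠ T) (hSR : S ≠ R) {u : G} (hu : u ≠ 1) (huS : u ∈ (S : Subgroup G)) (huT : u ∈ (T : Subgroup G))
    (huR : u ∈ (R : Subgroup G)) :
    (S : Subgroup G) ⊓ (T : Subgroup G) = (S : Subgroup G) ⊓ (R : Subgroup G) := by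
  set L := centralizer ((zpowers u : Subgroup G) : Set G) with hL
  have hLtop : L ≠ ⊤ := centralizer_ne_top hP (S.isPGroup'.to_le (zpowers_le.2 huS))
    (by rw [Ne, zpowers_eq_bot]; exact hu)
  have hle : ∀ {A B : Sylow 2 G}, A ≠ B → u ∈ (A : Subgroup G) → u ∈ (B : Subgroup G) → (A : Subgroup G) ≤ L :=
    fun {A B} hne hA hB a ha => by
      rw [hL, mem_centralizer_iff]
      rintro _ ⟨i, rfl⟩
      exact mem_centralizer_iff.1 ((centralizer _).zpow_mem (hG.central A B hne ⟨hA, hB⟩) i) a ha |>.symm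
  have hSL := hle hST huS huT
  have hTL := hle hST.symm huT huS
  have hRL := hle hSR.symm huR huS
  exact le_antisymm (le_inf inf_le_left (hG.meet_eq_of_le hO hP IH hLtop hSL hTL hRL hST hSR))
    (le_inf inf_le_left (hG.meet_eq_of_le hO hP IH hLtop hSL hRL hTL hSR hST))

/-- A Sylow subgroup meeting an intersection contains it. -/
theorem inf_le_of_mem (hO : Cfsg.oddCore G = ⊥) (hP : Cfsg.pCore 2 G = ⊥) (IH : Below G) {S T R : Sylow 2 G}
    (hST : S ≠ T) {x : G} (hx : x ≠ 1) (hxST : x ∈ (S : Subgroup G) ⊓ (T : Subgroup G))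
    (hxR : x ∈ (R : Subgroup G)) : (S : Subgroup G) ⊓ (T : Subgroup G) ≤ (R : Subgroup G) := by
  by_cases h : S = R
  · exact h ▸ inf_le_left
  · exact (hG.meet_eq hO hP IH hST h hx hxST.1 hxST.2 hxR).le.trans inf_le_right

theorem le_centralizer_inf {S T R : Sylow 2 G} (hST : S ≠ T)
    (hR : (S : Subgroup G) ⊓ (T : Subgroup G) ≤ (R : Subgroup G)) :
    (R : Subgroup G) ≤ centralizer (((S : Subgroup G) ⊓ (T : Subgroup G) : Subgroup G) : Set G) := by
  refine le_centralizer_iff.1 fun x hx => ?_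
  by_cases h : S = R
  · exact h ▸ hG.central S T hST hx
  · exact hG.central R S (Ne.symm h) ⟨hR hx, hx.1⟩

/-- All Sylow subgroups of the centraliser of an intersection contain it, and meet in it. -/
theorem inf_eq_of_le_centralizer (hO : Cfsg.oddCore G = ⊥) (hP : Cfsg.pCore 2 G = ⊥) (IH : Below G)
    {S T A B : Sylow 2 G} (hST : S ≠ T) (hD : (S : Subgroup G) ⊓ (T : Subgroup G) ≠ ⊥)
    (hA : (A : Subgroup G) ≤ centralizer (((S : Subgroup G) ⊓ (T : Subgroup G) : Subgroup G) : Set G))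
    (hB : (B : Subgroup G) ≤ centralizer (((S : Subgroup G) ⊓ (T : Subgroup G) : Subgroup G) : Set G))
    (hAB : A ≠ B) : (A : Subgroup G) ⊓ (B : Subgroup G) = (S : Subgroup G) ⊓ (T : Subgroup G) := by
  haveI := Fact.mk Nat.prime_two
  set D := (S : Subgroup G) ⊓ (T : Subgroup G) with hDdef
  have hle : ∀ R : Sylow 2 G, (R : Subgroup G) ≤ centralizer (D : Set G) → D ≤ (R : Subgroup G) := fun R hR d hd => by
    have h1 : d ∈ normalizer ((R : Subgroup G) : Set G) := centralizer_le_normalizer _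
      (le_centralizer_iff.1 hR hd)
    have h2 : d ∈ D ⊓ normalizer (R : Set G) := ⟨hd, h1⟩
    rw [(S.isPGroup'.to_le inf_le_left : IsPGroup 2 D).inf_normalizer_sylow R] at h2
    exact h2.2
  obtain ⟨u, huD, hu⟩ := (Subgroup.bot_or_exists_ne_one D).resolve_left hD
  have huA := hle A hA huD
  by_cases h : A = S
  · subst h
    exact (hG.meet_eq hO hP IH hST hAB hu huD.1 huD.2 (hle B hB huD)).symm
  · rw [hG.meet_eq hO hP IH hAB h hu huA (hle B hB huD) huD.1, inf_comm,
      hG.meet_eq hO hP IH (Ne.symm h) hST hu huD.1 huA huD.2]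

/-- The quotient of the centraliser of an intersection `D`. -/
theorem exists_local (hO : Cfsg.oddCore G = ⊥) (hP : Cfsg.pCore 2 G = ⊥) (IH : Below G)
    {S T : Sylow 2 G} (hST : S ≠ T) (hD : (S : Subgroup G) ⊓ (T : Subgroup G) ≠ ⊥) :
    ∃ L : Subgroup G, L = centralizer (((S : Subgroup G) ⊓ (T : Subgroup G) : Subgroup G) : Set G) ∧
      (S : Subgroup G) ≤ L ∧ (T : Subgroup G) ≤ L ∧
      ∃ (Q : Type u) (_ : Group Q) (_ : Finite Q) (f : ↥L →* Q), Function.Surjective f ∧
        Hyp Q ∧ Cfsg.oddCore Q = ⊥ ∧ Cfsg.pCore 2 Q = ⊥ ∧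
        (∀ A B : Sylow 2 Q, A ≠ B → (A : Subgroup Q) ⊓ (B : Subgroup Q) = ⊥) ∧
        (∀ A B : Sylow 2 G, (A : Subgroup G) ≤ L → (B : Subgroup G) ≤ L → ∀ x : L, (x : G) ∈ (A : Subgroup G) →
          f x ∈ ((B : Subgroup G).subgroupOf L).map f → (x : G) ∈ (B : Subgroup G)) ∧
        (∀ x : L, (x : G) ∈ (S : Subgroup G) → (f x = 1 ↔ (x : G) ∈ (S : Subgroup G) ⊓ (T : Subgroup G))) ∧
        Group.IsSolvable f.ker ∧
        ∀ k ∈ f.ker, ∀ A : Sylow 2 G, (A : Subgroup G) ≤ L → ∀ a : L, (a : G) ∈ (A : Subgroup G) → a * k = k * a := by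
  haveI := Fact.mk Nat.prime_two
  set D := (S : Subgroup G) ⊓ (T : Subgroup G) with hDdef
  have hDp : IsPGroup 2 D := S.isPGroup'.to_le inf_le_left
  set L := centralizer (D : Set G) with hLdef
  have hSL : (S : Subgroup G) ≤ L := hG.le_centralizer_inf hST inf_le_left
  have hTL : (T : Subgroup G) ≤ L := hG.le_centralizer_inf hST inf_le_right
  have hLtop : L ≠ ⊤ := centralizer_ne_top hP hDp hD
  refine ⟨L, rfl, hSL, hTL, ?_⟩
  set π₁ := QuotientGroup.mk' (Cfsg.oddCore L) with hπ₁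
  have hsurj₁ : Function.Surjective π₁ := QuotientGroup.mk'_surjective _
  have hK : Hyp (L ⧸ Cfsg.oddCore L) := (hG.subgroup hSL).quot_oddCore
  have hOK : Cfsg.oddCore (L ⧸ Cfsg.oddCore L) = ⊥ := CfsgLib.Core.pPrimeCore_quotient_pPrimeCore 2 L
  have hcard : Nat.card (L ⧸ Cfsg.oddCore L) < Nat.card G :=
    (Nat.card_le_card_of_surjective π₁ hsurj₁).trans_lt (lt_of_le_of_ne L.card_le_card_group
      fun e => hLtop (Subgroup.eq_top_of_card_eq L e))
  set DL := D.subgroupOf L with hDL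
  have hDcen : DL ≤ center L := fun d hd => mem_center_iff.2 fun g => Subtype.ext
    (mem_centralizer_iff.1 g.2 d (mem_subgroupOf.1 hd)).symm
  haveI : DL.Normal := ⟨fun d hd g => by
    rw [mem_center_iff.1 (hDcen hd) g, mul_inv_cancel_right]; exact hd⟩
  set P := Cfsg.pCore 2 (L ⧸ Cfsg.oddCore L) with hPdef
  haveI : P.Normal := CfsgLib.HallGen.pCore_normal' (G := L ⧸ Cfsg.oddCore L) 2
  have hne' : (S.subtype hSL).mapSurjective hsurj₁ ≠ (T.subtype hTL).mapSurjective hsurj₁ := fun e =>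
    hST (Sylow.ext ((S.is_maximal' T.isPGroup' fun s hs => hG.mem_of_image hO hP hSL hTL (x := ⟨s, hSL hs⟩) hs (by
      have h1 : π₁ ⟨s, hSL hs⟩ ∈ ((S.subtype hSL).mapSurjective hsurj₁ : Subgroup _) := by
        rw [Sylow.coe_mapSurjective]; exact mem_map_of_mem π₁ (mem_subgroupOf.2 hs)
      rw [e, Sylow.coe_mapSurjective] at h1
      exact h1)).symm))
  -- the 2-core of the quotient is the image of `D`
  have hPeq : P = DL.map π₁ := by
    refine le_antisymm (fun y hy => ?_) (le_sSup ⟨‹DL.Normal›.map π₁ hsurj₁,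
      (hDp.comap_of_injective L.subtype L.subtype_injective).map π₁⟩)
    have hyS := CfsgLib.HallGen.pCore_le_sylow ((S.subtype hSL).mapSurjective hsurj₁) hy
    have hyT := CfsgLib.HallGen.pCore_le_sylow ((T.subtype hTL).mapSurjective hsurj₁) hy
    rw [Sylow.coe_mapSurjective] at hyS hyT
    obtain ⟨s, hs, rfl⟩ := hyS
    exact ⟨s, mem_subgroupOf.2 ⟨mem_subgroupOf.1 hs, hG.mem_of_image hO hP hSL hTL (mem_subgroupOf.1 hs) hyT⟩, rfl⟩
  have hPcen : P ≤ center (L ⧸ Cfsg.oddCore L) := by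
    rw [hPeq]
    rintro _ ⟨d, hd, rfl⟩
    refine mem_center_iff.2 fun g => ?_
    obtain ⟨g, rfl⟩ := hsurj₁ g
    rw [← map_mul, ← map_mul, mem_center_iff.1 (hDcen hd) g]
  obtain ⟨h1, h2, h3⟩ := hK.quot_pCore hOK ⟨_, _, hne'⟩ hPcen
  set π₂ := QuotientGroup.mk' P with hπ₂
  have hsurj₂ : Function.Surjective π₂ := QuotientGroup.mk'_surjective P
  refine ⟨(L ⧸ Cfsg.oddCore L) ⧸ P, inferInstance, inferInstance, π₂.comp π₁, hsurj₂.comp hsurj₁, h1, h2, h3,
    IH _ ((Nat.card_le_card_of_surjective π₂ hsurj₂).trans_lt hcard) h1 h2 h3, ?_, ?_, ?_, ?_⟩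
  · intro A B hA hB x hx hxB
    obtain ⟨b, hb, e⟩ := hxB
    refine hG.mem_of_image hO hP hA hB hx ?_
    have h4 : (π₁ b)⁻¹ * π₁ x ∈ P := QuotientGroup.eq.1 e
    rw [hPeq] at h4
    obtain ⟨d, hd, e'⟩ := h4
    have hdB : (d : G) ∈ (B : Subgroup G) := by
      have h5 : (d : G) ∈ D ⊓ normalizer (B : Set G) :=
        ⟨mem_subgroupOf.1 hd, centralizer_le_normalizer _ (le_centralizer_iff.1 hB (mem_subgroupOf.1 hd))⟩
      rw [hDp.inf_normalizer_sylow B] at h5
      exact h5.2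
    exact ⟨b * d, mem_subgroupOf.2 ((B : Subgroup G).mul_mem (mem_subgroupOf.1 hb) hdB), by
      rw [map_mul, e', mul_inv_cancel_left]⟩
  · intro x hx
    constructor
    · intro h
      have h4 : π₁ x ∈ P := (QuotientGroup.eq_one_iff _).1 h
      have h5 := CfsgLib.HallGen.pCore_le_sylow ((T.subtype hTL).mapSurjective hsurj₁) h4
      rw [Sylow.coe_mapSurjective] at h5
      exact ⟨hx, hG.mem_of_image hO hP hSL hTL hx h5⟩
    · exact fun h => (QuotientGroup.eq_one_iff _).2 (hPeq ▸ ⟨x, mem_subgroupOf.2 h, rfl⟩)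
  · haveI : Group.IsSolvable (Cfsg.oddCore L) :=
      CfsgLib.OddLocal.FTFinal.odd_order_solvable (CfsgLib.ZStar.odd_card_oddCore L)
    haveI : Group.IsNilpotent P := (CfsgLib.HallGen.isPGroup_pCore 2).isNilpotent
    haveI : Group.IsSolvable P := inferInstance
    set N := (π₂.comp π₁).ker with hN
    let g : N →* P := (π₁.comp N.subtype).codRestrict P fun k => (QuotientGroup.eq_one_iff _).1 k.2
    have hk : ∀ k : g.ker, ((k : N) : L) ∈ Cfsg.oddCore L := fun k =>
      (QuotientGroup.eq_one_iff _).1 (congrArg Subtype.val k.2)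
    haveI : Group.IsSolvable g.ker := by
      let h : g.ker →* Cfsg.oddCore L := (N.subtype.comp g.ker.subtype).codRestrict (Cfsg.oddCore L) hk
      have hh : Function.Injective h := fun a b e => by
        have e' : ((a : N) : L) = ((b : N) : L) := congrArg (fun w : Cfsg.oddCore L => (w : L)) e
        exact Subtype.ext (Subtype.ext e')
      exact solvable_of_solvable_injective hh
    exact solvable_of_ker_le_range g.ker.subtype g (Subgroup.range_subtype _).ge
  · intro k hk A hA a ha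
    have h4 : π₁ k ∈ P := (QuotientGroup.eq_one_iff _).1 hk
    rw [hPeq] at h4
    obtain ⟨d, hd, e⟩ := h4
    set o := d⁻¹ * k with hodef
    have ho : o ∈ Cfsg.oddCore L := QuotientGroup.eq.1 e
    set Q₀ := (Cfsg.oddCore L).map L.subtype with hQ₀
    have hQ : Odd (Nat.card Q₀) := (CfsgLib.ZStar.odd_card_oddCore L).of_dvd_nat (Subgroup.card_map_dvd _ _)
    have hn : (A : Subgroup G) ≤ normalizer (Q₀ : Set G) := fun r hr => by
      have hL' : L ≤ normalizer (Q₀ : Set G) := by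
        have h5 := le_normalizer_map (H := Cfsg.oddCore L) L.subtype
        rw [normalizer_eq_top (H := Cfsg.oddCore L), ← MonoidHom.range_eq_map, Subgroup.range_subtype] at h5
        exact h5
      exact hL' (hA hr)
    have hcen := hG.le_centralizer_of_odd hO hP A hQ hn ha
    have hao : Commute a o := Subtype.ext (mem_centralizer_iff.1 hcen o ⟨o, ho, rfl⟩).symm
    have had : Commute a d := mem_center_iff.1 (hDcen hd) a
    have : k = d * o := by rw [hodef, mul_inv_cancel_left]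
    rw [this]
    exact (had.mul_right hao).eq

end Hyp

end CfsgLib.CentralMeet
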