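import Cfsg.Agent.Lib.Invol.CentralMeet.Sections
import Cfsg.Agent.Lib.Bender.GroupLemmas
import Cfsg.Agent.Lib.Core.UniqueOrderP
import Cfsg.Agent.Lib.Invol.CyclicInter.Basic

/-!
Owner: helper18. S3181: odd subgroups normalised by a Sylow 2-subgroup `S`.

* `TwoGen S`: modulo a central subgroup inside `meetGen S`, `S` is cyclic or generalised quaternion.
* `Hyp.centralizes_or_twoGen`: `S` centralises such a subgroup, or `TwoGen S`.
* `Hyp.not_twoGen`: the exception does not occur without odd and 2-core.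
-/

set_option autoImplicit false
set_option linter.style.haveILetI false
set_option linter.unusedSectionVars false

namespace CfsgLib.CentralMeet

open Subgroup

universe u

variable {G : Type u} [Group G] [Finite G]

/-- Modulo a central subgroup inside `meetGen S`, `S` is cyclic, or has two generators with the quaternion
relations. -/
def TwoGen (S : Sylow 2 G) : Prop :=
  ∃ C₀ : Subgroup G, C₀ ≤ meetGen S ∧
    ((∃ a ∈ (S : Subgroup G), ∀ s ∈ (S : Subgroup G), ∃ i : ℤ, (a ^ i)⁻¹ * s ∈ C₀) ∨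
      ∃ a ∈ (S : Subgroup G), ∃ x ∈ (S : Subgroup G), a * a ∉ C₀ ∧ x * a * x⁻¹ * a ∈ C₀ ∧
        ∀ s ∈ (S : Subgroup G), ∃ i : ℤ, (a ^ i)⁻¹ * s ∈ C₀ ∨ (x * a ^ i)⁻¹ * s ∈ C₀)

namespace Hyp

variable (hG : Hyp G)
include hG

/-- A subgroup inside `meetGen S` with one involution in the quotient of `S`. -/
theorem twoGen_of_unique (S : Sylow 2 G) {C₀ : Subgroup G} (hC : C₀ ≤ meetGen S)
    (hu : ∀ v ∈ (S : Subgroup G), ∀ w ∈ (S : Subgroup G), v ∉ C₀ → w ∉ C₀ → v * v ∈ C₀ → w * w ∈ C₀ →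
      v * w * v⁻¹ * w⁻¹ ∈ C₀ → v⁻¹ * w ∈ C₀) : TwoGen S := by
  haveI := Fact.mk Nat.prime_two
  refine ⟨C₀, hC, ?_⟩
  set N := C₀.subgroupOf (S : Subgroup G) with hN
  haveI : N.Normal := ⟨fun c hc s => by
    rw [hN, mem_subgroupOf] at hc ⊢
    rw [Subgroup.coe_mul, Subgroup.coe_mul, Subgroup.coe_inv, hG.comm (hC hc) s.2, mul_inv_cancel_right]
    exact hc⟩
  set π := QuotientGroup.mk' N with hπ
  have hsurj : Function.Surjective π := QuotientGroup.mk'_surjective N
  have hker : ∀ v : (S : Subgroup G), π v = 1 ↔ (v : G) ∈ C₀ := fun v => QuotientGroup.eq_one_iff v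
  have hp : IsPGroup 2 ((S : Subgroup G) ⧸ N) := S.isPGroup'.to_quotient N
  have huniq : ∀ x y : (S : Subgroup G) ⧸ N, orderOf x = 2 → orderOf y = 2 → x = y := by
    intro x y hx hy
    haveI : Nontrivial ((S : Subgroup G) ⧸ N) :=
      ⟨⟨x, 1, fun e => CfsgLib.Signalizer.involution_ne_one hx e⟩⟩
    haveI := hp.center_nontrivial
    obtain ⟨k, hk0, hk⟩ := (hp.to_subgroup (center ((S : Subgroup G) ⧸ N))).nontrivial_iff_card.1 ‹_›
    obtain ⟨⟨z, hzc⟩, hz⟩ := exists_prime_orderOf_dvd_card' (G := center ((S : Subgroup G) ⧸ N)) 2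
      (hk ▸ dvd_pow_self 2 hk0.ne')
    rw [Subgroup.orderOf_mk] at hz
    have key : ∀ w : (S : Subgroup G) ⧸ N, orderOf w = 2 → w = z := by
      intro w hw
      obtain ⟨w, rfl⟩ := hsurj w
      obtain ⟨v, rfl⟩ := hsurj z
      have hvw : π v * π w = π w * π v := (mem_center_iff.1 hzc (π w)).symm
      have h1 := hu v v.2 w w.2 (fun h => CfsgLib.Signalizer.involution_ne_one hz ((hker _).2 h))
        (fun h => CfsgLib.Signalizer.involution_ne_one hw ((hker _).2 h))
        ((hker (v * v)).1 (by rw [map_mul]; exact CfsgLib.Signalizer.involution_sq hz))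
        ((hker (w * w)).1 (by rw [map_mul]; exact CfsgLib.Signalizer.involution_sq hw))
        ((hker (v * w * v⁻¹ * w⁻¹)).1 (by
          rw [map_mul, map_mul, map_mul, hvw, map_inv, map_inv, mul_inv_cancel_right, mul_inv_cancel]))
      have h2 : π (v⁻¹ * w) = 1 := (hker _).2 h1
      rw [map_mul, map_inv, inv_mul_eq_one] at h2
      exact h2.symm
    rw [key x hx, key y hy]
  have hlift : ∀ (s : (S : Subgroup G)) (g : (S : Subgroup G)), π s = π g → (g : G)⁻¹ * s ∈ C₀ := fun s g e =>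
    (hker (g⁻¹ * s)).1 (by rw [map_mul, map_inv, e, inv_mul_cancel])
  by_cases hc : IsCyclic ((S : Subgroup G) ⧸ N)
  · obtain ⟨g, hg⟩ := IsCyclic.exists_generator (α := (S : Subgroup G) ⧸ N)
    obtain ⟨a, rfl⟩ := hsurj g
    refine Or.inl ⟨a, a.2, fun s hs => ?_⟩
    obtain ⟨i, hi⟩ := hg (π ⟨s, hs⟩)
    refine ⟨i, ?_⟩
    have := hlift ⟨s, hs⟩ (a ^ i) (by rw [← hi, map_zpow])
    rwa [Subgroup.coe_zpow] at this
  · have huniq' : ∀ A B : Subgroup ((S : Subgroup G) ⧸ N), Nat.card A = 2 → Nat.card B = 2 → A = B := by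
      intro A B hA hB
      obtain ⟨⟨a, ha⟩, ha2⟩ := exists_prime_orderOf_dvd_card' 2 hA.symm.dvd
      obtain ⟨⟨b, hb⟩, hb2⟩ := exists_prime_orderOf_dvd_card' 2 hB.symm.dvd
      rw [Subgroup.orderOf_mk] at ha2 hb2
      have eA : zpowers a = A := eq_of_le_of_card_ge (zpowers_le.2 ha) (by rw [Nat.card_zpowers, ha2, hA])
      have eB : zpowers b = B := eq_of_le_of_card_ge (zpowers_le.2 hb) (by rw [Nat.card_zpowers, hb2, hB])
      rw [← eA, ← eB, huniq a b ha2 hb2]
    rcases CfsgLib.Core.UniqueOrderP.isCyclic_or_quaternion_of_unique hp huniq' with h | ⟨-, n, ⟨e⟩⟩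
    · exact absurd h hc
    rcases n with _ | n
    · exact absurd (e.isCyclic.2 QuaternionGroup.quaternionGroup_one_isCyclic) hc
    obtain ⟨a, ha⟩ := hsurj (e.symm (.a 1))
    obtain ⟨x, hx⟩ := hsurj (e.symm (.xa 0))
    refine Or.inr ⟨a, a.2, x, x.2, fun h => ?_, ?_, fun s hs => ?_⟩
    · have h1 := congrArg e ((hker (a * a)).2 h)
      rw [map_mul, ha, map_mul, e.apply_symm_apply, map_one, QuaternionGroup.a_mul_a, QuaternionGroup.one_def,
        QuaternionGroup.a.injEq, show (1 : ZMod (2 * 2 ^ (n + 1))) + 1 = ((2 : ℕ) : ZMod (2 * 2 ^ (n + 1))) by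
          norm_num, ZMod.natCast_eq_zero_iff] at h1
      have h2 := Nat.le_of_dvd two_pos h1
      have h3 : 2 ≤ 2 ^ (n + 1) := by rw [pow_succ]; exact Nat.le_mul_of_pos_left 2 (by positivity)
      omega
    · refine (hker (x * a * x⁻¹ * a)).1 (e.injective ?_)
      simp only [map_mul, map_inv, map_one, ha, hx, e.apply_symm_apply]
      show QuaternionGroup.xa 0 * .a 1 * (.xa 0 : QuaternionGroup (2 ^ (n + 1)))⁻¹ * .a 1 = 1
      rw [show QuaternionGroup.xa 0 * .a 1 * (.xa 0 : QuaternionGroup (2 ^ (n + 1)))⁻¹ = .a (-1) from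
          mul_inv_eq_iff_eq_mul.2 (by rw [QuaternionGroup.xa_mul_a, QuaternionGroup.a_mul_xa, sub_neg_eq_add, zero_add]),
        QuaternionGroup.a_mul_a, neg_add_cancel, ← QuaternionGroup.one_def]
    · have hpow : ∀ i : ZMod (2 * 2 ^ (n + 1)), ∃ j : ℤ, e.symm (.a i) = π (a ^ j) := fun i => by
        refine ⟨(i.val : ℤ), ?_⟩
        rw [zpow_natCast, map_pow, ha, ← map_pow, QuaternionGroup.a_one_pow, ZMod.natCast_rightInverse i]
      obtain ⟨w, hw⟩ : ∃ w, w = e (π ⟨s, hs⟩) := ⟨_, rfl⟩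
      rcases w with i | i
      · obtain ⟨j, hj⟩ := hpow i
        refine ⟨j, Or.inl ?_⟩
        have := hlift ⟨s, hs⟩ (a ^ j) (by rw [← hj, hw, e.symm_apply_apply])
        rwa [Subgroup.coe_zpow] at this
      · obtain ⟨j, hj⟩ := hpow i
        refine ⟨j, Or.inr ?_⟩
        have := hlift ⟨s, hs⟩ (x * a ^ j) (by
          rw [map_mul, hx, ← hj, ← map_mul, QuaternionGroup.xa_mul_a, zero_add, hw, e.symm_apply_apply])
        rwa [Subgroup.coe_mul, Subgroup.coe_zpow] at this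

/-- An odd subgroup normalised by `S` is centralised by it, unless `S` is two-generated in the sense above. -/
theorem centralizes_or_twoGen (S : Sylow 2 G) {Q : Subgroup G} (hQ : Odd (Nat.card Q))
    (hS : (S : Subgroup G) ≤ normalizer (Q : Set G)) :
    (S : Subgroup G) ≤ centralizer (Q : Set G) ∨ TwoGen S := by
  haveI := Fact.mk Nat.prime_two
  by_cases hsc : (S : Subgroup G) ≤ centralizer (Q : Set G)
  · exact Or.inl hsc
  refine Or.inr ?_
  have hdisj : ∀ {x : G}, x ∈ Q → x ∈ (S : Subgroup G) → x = 1 := fun h1 h2 =>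
    mem_bot.1 (sylow_inf_odd hQ S ▸ ⟨h1, h2⟩)
  set 𝒞 := {C : Subgroup G | C ≤ meetGen S ∧
    ¬ Q ⊓ centralizer (C : Set G) ≤ centralizer ((S : Subgroup G) : Set G)} with h𝒞
  have h0 : (⊥ : Subgroup G) ∈ 𝒞 := by
    refine ⟨bot_le, fun h => hsc fun s hs => mem_centralizer_iff.2 fun x hx => ?_⟩
    exact (mem_centralizer_iff.1 (h ⟨hx, mem_centralizer_iff.2 fun c hc => by
      rw [SetLike.mem_coe, mem_bot] at hc
      rw [hc, one_mul, mul_one]⟩) s hs).symm
  obtain ⟨C₀, ⟨hC₀, hnot⟩, hmax⟩ := (Set.toFinite 𝒞).exists_maximal ⟨_, h0⟩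
  refine hG.twoGen_of_unique S hC₀ fun v hv w hw hvC hwC hv2 hw2 hvw => ?_
  by_contra hne
  set Q₁ := Q ⊓ centralizer (C₀ : Set G) with hQ₁
  -- elements of `S` outside `C₀` fix only what `S` fixes
  have hfix : ∀ x ∈ Q₁, ∀ r ∈ (S : Subgroup G), r ∉ C₀ → x * r = r * x →
      x ∈ centralizer ((S : Subgroup G) : Set G) := by
    intro x hx r hr hrC hc
    by_cases hrZ : r ∈ meetGen S
    · have h1 : C₀ ⊔ zpowers r ∉ 𝒞 := fun h =>
        hrC (hmax h le_sup_left (mem_sup_right (mem_zpowers r)))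
      simp only [h𝒞, Set.mem_setOf_eq, not_and, not_not] at h1
      refine h1 (sup_le hC₀ (zpowers_le.2 hrZ)) ⟨hx.1, ?_⟩
      refine SetLike.le_def.1 (le_centralizer_iff.1 (sup_le ?_ (zpowers_le.2 ?_))) (mem_zpowers x)
      · exact le_centralizer_iff.1 (zpowers_le.2 hx.2)
      · rw [mem_centralizer_iff]
        rintro _ ⟨i, rfl⟩
        exact (Commute.zpow_left (show Commute x r from hc) i).eq
    · refine mem_centralizer_iff.2 fun s hs => ?_
      have hxn := Sylow.smul_eq_iff_mem_normalizer.1 (smul_eq_of_commute hr hrZ hc)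
      have h1 : x * s * x⁻¹ * s⁻¹ ∈ Q := by
        rw [show x * s * x⁻¹ * s⁻¹ = x * (s * x⁻¹ * s⁻¹) by group]
        exact mul_mem hx.1 ((mem_normalizer_iff.1 (hS hs) _).1 (inv_mem hx.1))
      have h2 := hdisj h1 ((S : Subgroup G).mul_mem ((mem_normalizer_iff.1 hxn s).1 hs)
        ((S : Subgroup G).inv_mem hs))
      rw [mul_inv_eq_one, mul_inv_eq_iff_eq_mul] at h2
      exact h2.symm
  -- the quotient of `C(C₀)`
  set K := centralizer (C₀ : Set G) with hK
  have hSK : (S : Subgroup G) ≤ K := fun s hs => mem_centralizer_iff.2 fun c hc => (hG.comm (hC₀ hc) hs).symm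
  set N := C₀.subgroupOf K with hN
  haveI : N.Normal := ⟨fun c hc g => by
    rw [hN, mem_subgroupOf] at hc ⊢
    rw [Subgroup.coe_mul, Subgroup.coe_mul, Subgroup.coe_inv, ← mem_centralizer_iff.1 g.2 _ hc,
      mul_inv_cancel_right]
    exact hc⟩
  set π := QuotientGroup.mk' N with hπ
  have hker : ∀ y : K, π y = 1 ↔ (y : G) ∈ C₀ := fun y => QuotientGroup.eq_one_iff y
  have hQ₁odd : Odd (Nat.card Q₁) := hQ.of_dvd_nat (card_dvd_of_le inf_le_left)
  set R := (Q₁.subgroupOf K).map π with hR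
  have hRodd : Odd (Nat.card R) := hQ₁odd.of_dvd_nat
    ((Subgroup.card_map_dvd _ _).trans (dvd_of_eq (Nat.card_congr (subgroupOfEquivOfLe inf_le_right).toEquiv)))
  set Y := ((Q₁ ⊓ centralizer ((S : Subgroup G) : Set G)).subgroupOf K).map π with hY
  have hnorm : ∀ {r : G} (hr : r ∈ (S : Subgroup G)) {x : G}, x ∈ Q₁ → r * x * r⁻¹ ∈ Q₁ := fun hr x hx =>
    ⟨(mem_normalizer_iff.1 (hS hr) x).1 hx.1, (centralizer (C₀ : Set G)).mul_mem ((centralizer (C₀ : Set G)).mul_mem (hSK hr) hx.2)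
      ((centralizer (C₀ : Set G)).inv_mem (hSK hr))⟩
  have hinv : ∀ {r : G} (hr : r ∈ (S : Subgroup G)), r ∉ C₀ → r * r ∈ C₀ →
      orderOf (π ⟨r, hSK hr⟩) = 2 := fun hr hrC hr2 => orderOf_eq_prime (by
    rw [pow_two, ← map_mul]; exact (hker _).2 hr2) fun h => hrC ((hker _).1 h)
  have hne' : π ⟨v, hSK hv⟩ ≠ π ⟨w, hSK hw⟩ := fun h => hne ((hker (⟨v, hSK hv⟩⁻¹ * ⟨w, hSK hw⟩)).1
    (by rw [map_mul, map_inv, h, inv_mul_cancel]))
  have hcomm : π ⟨v, hSK hv⟩ * π ⟨w, hSK hw⟩ = π ⟨w, hSK hw⟩ * π ⟨v, hSK hv⟩ := by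
    have h1 : π (⟨v, hSK hv⟩ * ⟨w, hSK hw⟩ * ⟨v, hSK hv⟩⁻¹ * ⟨w, hSK hw⟩⁻¹) = 1 := (hker _).2 hvw
    rw [map_mul, map_mul, map_mul, map_inv, map_inv, mul_inv_eq_one, mul_inv_eq_iff_eq_mul] at h1
    exact h1
  have hnR : ∀ {r : G} (hr : r ∈ (S : Subgroup G)), π ⟨r, hSK hr⟩ ∈ normalizer (R : Set _) := fun {r} hr =>
    mem_normalizer_iff.2 fun y => ⟨fun ⟨q, hq, e⟩ => ⟨⟨r, hSK hr⟩ * q * ⟨r, hSK hr⟩⁻¹,
        mem_subgroupOf.2 (hnorm hr (mem_subgroupOf.1 hq)), by rw [map_mul, map_mul, map_inv, e]⟩,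
      fun ⟨q, hq, e⟩ => ⟨⟨r, hSK hr⟩⁻¹ * q * ⟨r, hSK hr⟩, mem_subgroupOf.2 (by
        simpa [mul_assoc] using hnorm (inv_mem hr) (mem_subgroupOf.1 hq)), by
          rw [map_mul, map_mul, map_inv, e]; group⟩⟩
  have hle : R ≤ Y := by
    refine CfsgLib.Bender.le_of_four_centralizers hRodd (hinv hv hvC hv2) (hinv hw hwC hw2) hcomm hne'
      (hnR hv) (hnR hw) ?_
    intro y hy a ha hya
    obtain ⟨r, hr, hrC, rfl⟩ : ∃ r, ∃ hr : r ∈ (S : Subgroup G), r ∉ C₀ ∧ π ⟨r, hSK hr⟩ = a := by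
      rcases ha with rfl | rfl | rfl
      · exact ⟨v, hv, hvC, rfl⟩
      · exact ⟨w, hw, hwC, rfl⟩
      · refine ⟨v * w, mul_mem hv hw, fun h => hne ?_, by rw [← map_mul]; rfl⟩
        have h1 : v⁻¹ * (v⁻¹ * (v * w)) * v = v⁻¹ * w * v := by group
        have h2 : v⁻¹ * w = (v * v)⁻¹ * (v * w) := by group
        rw [h2]
        exact mul_mem (inv_mem hv2) h
    obtain ⟨q, hq, rfl⟩ := hy
    refine ⟨q, mem_subgroupOf.2 ⟨mem_subgroupOf.1 hq, hfix _ (mem_subgroupOf.1 hq) r hr hrC ?_⟩, rfl⟩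
    have h1 : π (⟨r, hSK hr⟩ * q * ⟨r, hSK hr⟩⁻¹ * q⁻¹) = 1 := by
      rw [map_mul, map_mul, map_mul, map_inv, map_inv, ← hya, mul_inv_cancel_right, mul_inv_cancel]
    have h2 : r * (q : G) * r⁻¹ * (q : G)⁻¹ ∈ Q₁ :=
      mul_mem (hnorm hr (mem_subgroupOf.1 hq)) (inv_mem (mem_subgroupOf.1 hq))
    have h3 := hdisj h2.1 (meetGen_le S (hC₀ ((hker _).1 h1)))
    rw [mul_inv_eq_one, mul_inv_eq_iff_eq_mul] at h3
    exact h3.symm
  refine hnot fun x hx => ?_
  obtain ⟨q, hq, e⟩ := hle ⟨⟨x, hx.2⟩, mem_subgroupOf.2 hx, rfl⟩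
  have h1 : (q : G)⁻¹ * x ∈ C₀ := (hker (q⁻¹ * ⟨x, hx.2⟩)).1 (by rw [map_mul, map_inv, e, inv_mul_cancel])
  have h2 := hdisj (mul_mem (inv_mem (mem_subgroupOf.1 hq).1.1) hx.1) (meetGen_le S (hC₀ h1))
  rw [inv_mul_eq_one] at h2
  exact h2 ▸ (mem_subgroupOf.1 hq).2

/-- The exception needs an odd core or a 2-core. -/
theorem not_twoGen (hO : Cfsg.oddCore G = ⊥) (hP : Cfsg.pCore 2 G = ⊥) (S : Sylow 2 G) : ¬ TwoGen S := by
  classical
  haveI := Fact.mk Nat.prime_two
  rintro ⟨C₀, hC, ⟨a, ha, hgen⟩ | ⟨a, ha, x, hx, ha2, hxa, hgen⟩⟩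
  · -- the cyclic case
    have hab : ∀ s ∈ (S : Subgroup G), ∀ r ∈ (S : Subgroup G), s * r = r * s := by
      intro s hs r hr
      obtain ⟨i, hi⟩ := hgen r hr
      have h1 : s * a = a * s := by
        obtain ⟨j, hj⟩ := hgen s hs
        have h2 := hG.comm (hC hj) ha
        calc s * a = a ^ j * ((a ^ j)⁻¹ * s * a) := by group
          _ = a ^ j * (a * ((a ^ j)⁻¹ * s)) := by rw [h2]
          _ = a * s := by group
      have h3 := hG.comm (hC hi) hs
      calc s * r = s * a ^ i * ((a ^ i)⁻¹ * r) := by group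
        _ = a ^ i * s * ((a ^ i)⁻¹ * r) := by rw [(Commute.zpow_right (show Commute s a from h1) i).eq]
        _ = a ^ i * (((a ^ i)⁻¹ * r) * s) := by rw [mul_assoc, h3]
        _ = r * s := by group
    haveI : IsMulCommutative (S : Subgroup G) := ⟨⟨fun u v => Subtype.ext (hab u u.2 v v.2)⟩⟩
    open IsMulCommutative in
    letI : CommGroup (S : Subgroup G) := inferInstance
    set Z := (meetGen S).subgroupOf (S : Subgroup G) with hZ
    haveI : Z.Normal := ⟨fun c hc g => by rwa [mul_comm g c, mul_inv_cancel_right]⟩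
    set π := QuotientGroup.mk' Z with hπ
    have hcyc : IsCyclic ((S : Subgroup G) ⧸ Z) := ⟨⟨π ⟨a, ha⟩, fun y => by
      obtain ⟨⟨s, hs⟩, rfl⟩ := QuotientGroup.mk'_surjective Z y
      obtain ⟨i, hi⟩ := hgen s hs
      refine ⟨i, ?_⟩
      show π ⟨a, ha⟩ ^ i = π ⟨s, hs⟩
      rw [← map_zpow, ← inv_mul_eq_one, ← map_inv, ← map_mul]
      refine (QuotientGroup.eq_one_iff _).2 (mem_subgroupOf.2 ?_)
      simpa using hC hi⟩⟩
    haveI : Nontrivial ((S : Subgroup G) ⧸ Z) := by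
      obtain ⟨s, hs, hs'⟩ := hG.proper S
      exact ⟨⟨π ⟨s, hs⟩, 1, fun e => hs' (mem_subgroupOf.1 ((QuotientGroup.eq_one_iff _).1 e))⟩⟩
    obtain ⟨k, hk0, hk⟩ := (S.isPGroup'.to_quotient Z).nontrivial_iff_card.1 ‹_›
    obtain ⟨t', ht'⟩ := exists_prime_orderOf_dvd_card' (G := (S : Subgroup G) ⧸ Z) 2
      (hk ▸ dvd_pow_self 2 hk0.ne')
    obtain ⟨t, rfl⟩ := QuotientGroup.mk'_surjective Z t'
    have huniq : ∀ r : (S : Subgroup G), orderOf (π r) = 2 → π r = π t := fun r hr => by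
      by_contra hne
      exact CfsgLib.CyclicInter.not_isCyclic_of_two_involutions (U := (⊤ : Subgroup ((S : Subgroup G) ⧸ Z)))
        (mem_top _) (mem_top _) hr ht' hne (Subgroup.topEquiv.isCyclic.2 hcyc)
    set Nn := normalizer ((S : Subgroup G) : Set G) with hNn
    let F : Nn → (S : Subgroup G) := fun n =>
      ⟨(n : G) * t * (n : G)⁻¹, (mem_normalizer_iff.1 n.2 _).1 t.2⟩
    have hF : ∀ n, π (F n) = π t := fun n => huniq _ (orderOf_eq_prime (by
        have h1 : (t : G) * t ∈ meetGen S :=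
          mem_subgroupOf.1 ((QuotientGroup.eq_one_iff (t * t)).1
            (show π (t * t) = 1 by rw [map_mul]; exact CfsgLib.Signalizer.involution_sq ht'))
        rw [pow_two, ← map_mul, hπ, QuotientGroup.mk'_apply, QuotientGroup.eq_one_iff, hZ, mem_subgroupOf,
          Subgroup.coe_mul]
        show (n : G) * t * (n : G)⁻¹ * ((n : G) * t * (n : G)⁻¹) ∈ _
        rw [show (n : G) * t * (n : G)⁻¹ * ((n : G) * t * (n : G)⁻¹) = n * (t * t) * (n : G)⁻¹ by group]
        exact conj_mem_meetGen n.2 h1) fun e => by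
      have h1 : (n : G) * t * (n : G)⁻¹ ∈ meetGen S := mem_subgroupOf.1 ((QuotientGroup.eq_one_iff (F n)).1 e)
      have h2 := conj_mem_meetGen (inv_mem n.2) h1
      simp only [mul_assoc, inv_inv, inv_mul_cancel_left, inv_mul_cancel, mul_one] at h2
      exact CfsgLib.Signalizer.involution_ne_one ht' ((QuotientGroup.eq_one_iff t).2 (mem_subgroupOf.2 h2)))
    set Cn : Subgroup Nn := (S : Subgroup G).subgroupOf Nn with hCn
    haveI : Cn.Normal := Subgroup.normal_in_normalizer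
    have hinvar : ∀ n c : Nn, c ∈ Cn → F (n * c) = F n := fun n c hc => by
      refine Subtype.ext ?_
      show (n : G) * c * t * ((n : G) * c)⁻¹ = (n : G) * t * (n : G)⁻¹
      rw [mul_assoc (n : G), hab _ (mem_subgroupOf.1 hc) _ t.2]
      group
    haveI : Fintype (Nn ⧸ Cn) := Fintype.ofFinite _
    set p := ∏ q : Nn ⧸ Cn, F q.out with hp
    have hodd : Odd (Fintype.card (Nn ⧸ Cn)) := by
      rw [← Nat.card_eq_fintype_card, ← Subgroup.index_eq_card, Nat.odd_iff, ← Nat.two_dvd_ne_zero, hCn]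
      exact (S.subtype le_normalizer).not_dvd_index
    have hπp : π p = π t := by
      rw [hp, map_prod, Finset.prod_congr rfl fun q _ => hF q.out, Finset.prod_const, Finset.card_univ]
      obtain ⟨j, hj⟩ := hodd
      rw [hj, pow_succ, pow_mul, pow_two, CfsgLib.Signalizer.involution_sq ht', one_pow, one_mul]
    have hpfix : ∀ m : Nn, (m : G) * p * (m : G)⁻¹ = p := fun m => by
      let μ : (S : Subgroup G) →* (S : Subgroup G) := MonoidHom.mk'
        (fun r => ⟨(m : G) * r * (m : G)⁻¹, (mem_normalizer_iff.1 m.2 _).1 r.2⟩) fun u v => Subtype.ext (by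
          show (m : G) * (u * v) * (m : G)⁻¹ = _
          simp [mul_assoc])
      have h1 : μ p = p := by
        rw [hp, map_prod]
        refine Fintype.prod_equiv (MulAction.toPerm m) _ _ fun q => ?_
        obtain ⟨c, hc, he⟩ : ∃ c ∈ Cn, (MulAction.toPerm m q).out = m * q.out * c := by
          refine ⟨(m * q.out)⁻¹ * (MulAction.toPerm m q).out, ?_, by group⟩
          refine QuotientGroup.eq.1 ?_
          rw [QuotientGroup.out_eq']
          conv_rhs => rw [MulAction.toPerm_apply, ← QuotientGroup.out_eq' q]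
          rfl
        rw [he, hinvar _ _ hc]
        exact Subtype.ext (by
          show (m : G) * ((q.out : G) * t * (q.out : G)⁻¹) * (m : G)⁻¹ = _
          show _ = (m : G) * (q.out : G) * t * ((m : G) * (q.out : G))⁻¹
          group)
      exact congrArg Subtype.val h1
    have hp1 : p ≠ 1 := fun e => by
      rw [e, map_one] at hπp
      exact CfsgLib.Signalizer.involution_ne_one ht' hπp.symm
    obtain ⟨j, hj⟩ := IsPGroup.iff_orderOf.1 S.isPGroup' p
    have hj0 : j ≠ 0 := fun e => hp1 (orderOf_eq_one_iff.1 (by rw [hj, e, pow_zero]))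
    have hz2 : orderOf (p ^ 2 ^ (j - 1)) = 2 := by
      rw [orderOf_pow' _ (pow_ne_zero _ two_ne_zero), hj,
        Nat.gcd_eq_right (pow_dvd_pow 2 (by omega : j - 1 ≤ j)), Nat.pow_div (by omega) two_pos,
        show j - (j - 1) = 1 by omega, pow_one]
    rw [← Subgroup.orderOf_coe] at hz2
    refine hG.no_fixed hO hP (p ^ 2 ^ (j - 1) : (S : Subgroup G)).2 hz2 (fun s hs => hab s hs _ (SetLike.coe_mem _))
      fun n hn => ?_
    have hc : Commute n (p : G) := mul_inv_eq_iff_eq_mul.1 (hpfix ⟨n, hn⟩)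
    rw [Subgroup.coe_pow]
    exact (hc.pow_right _).eq
  · -- the quaternion case
    set d := x * a * x⁻¹ * a⁻¹ with hd
    have hdS : d ∈ (S : Subgroup G) := mul_mem (mul_mem (mul_mem hx ha) (inv_mem hx)) (inv_mem ha)
    set c := x * a * x⁻¹ * a with hc
    have hca : a * c = c * a := hG.comm (hC hxa) ha
    have hcx : x * c = c * x := hG.comm (hC hxa) hx
    have hxax : x * a * x⁻¹ = c * a⁻¹ := by rw [hc]; group
    have hd' : d = c * a⁻¹ * a⁻¹ := by rw [hd, hxax]
    have had : Commute a d := by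
      rw [hd']
      exact ((show Commute a c from hca).mul_right (Commute.inv_right (Commute.refl a))).mul_right
        (Commute.inv_right (Commute.refl a))
    have hxd : x * d * x⁻¹ = d⁻¹ := by
      have h1 : Commute a c := hca
      calc x * d * x⁻¹ = (x * c * x⁻¹) * (x * a * x⁻¹)⁻¹ * (x * a * x⁻¹)⁻¹ := by rw [hd']; group
        _ = c * (c * a⁻¹)⁻¹ * (c * a⁻¹)⁻¹ := by rw [hcx, mul_inv_cancel_right, hxax]
        _ = a * (a * c⁻¹) := by rw [mul_inv_rev, inv_inv, ← mul_assoc c a, ← h1.eq, mul_inv_cancel_right]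
        _ = d⁻¹ := by rw [hd']; simp [mul_assoc]
    have hd1 : d ≠ 1 := fun e => ha2 (by
      have h1 : c = a * a := by rw [← mul_inv_eq_one, mul_inv_rev, ← mul_assoc, ← hd', e]
      exact h1 ▸ hxa)
    set Dd : Subgroup (S : Subgroup G) := zpowers ⟨d, hdS⟩ with hDd
    have hstep : ∀ {s : (S : Subgroup G)}, (s : G) * d * (s : G)⁻¹ = d ∨ (s : G) * d * (s : G)⁻¹ = d⁻¹ →
        ∀ y ∈ Dd, s * y * s⁻¹ ∈ Dd := by
      intro s h y hy
      obtain ⟨i, rfl⟩ := hy
      rw [show s * (⟨d, hdS⟩ : (S : Subgroup G)) ^ i * s⁻¹ = (s * ⟨d, hdS⟩ * s⁻¹) ^ i from conj_zpow.symm]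
      refine zpow_mem ?_ i
      rcases h with h | h
      · rw [show s * (⟨d, hdS⟩ : (S : Subgroup G)) * s⁻¹ = ⟨d, hdS⟩ from Subtype.ext h]; exact mem_zpowers _
      · rw [show s * (⟨d, hdS⟩ : (S : Subgroup G)) * s⁻¹ = ⟨d, hdS⟩⁻¹ from Subtype.ext h]
        exact inv_mem (mem_zpowers _)
    have hgen' : ∀ s : (S : Subgroup G), ∃ i : ℤ, ∃ e : G, e ∈ C₀ ∧
        ((s : G) = a ^ i * e ∨ (s : G) = x * a ^ i * e) := fun s => by
      obtain ⟨i, h | h⟩ := hgen s s.2
      · exact ⟨i, _, h, Or.inl (by group)⟩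
      · exact ⟨i, _, h, Or.inr (by group)⟩
    haveI : Dd.Normal := ⟨fun y hy s => hstep (by
      obtain ⟨i, e, he, h⟩ := hgen' s
      have hconj : a ^ i * e * d * (a ^ i * e)⁻¹ = d := mul_inv_eq_iff_eq_mul.2
        (((had.zpow_left i).mul_left (show Commute e d from (hG.comm (hC he) hdS).symm)).eq)
      rcases h with h | h
      · left; rw [h, hconj]
      · right
        rw [h, show x * a ^ i * e * d * (x * a ^ i * e)⁻¹ = x * (a ^ i * e * d * (a ^ i * e)⁻¹) * x⁻¹ by group,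
          hconj, hxd]) y hy⟩
    set π := QuotientGroup.mk' Dd with hπ
    set A : (S : Subgroup G) := ⟨a, ha⟩ with hA
    set X : (S : Subgroup G) := ⟨x, hx⟩ with hX
    have hAX : Commute (π X) (π A) := by
      have h1 : π (X * A * X⁻¹ * A⁻¹) = 1 := (QuotientGroup.eq_one_iff _).2 (mem_zpowers _)
      rw [map_mul, map_mul, map_mul, map_inv, map_inv, mul_inv_eq_one, mul_inv_eq_iff_eq_mul] at h1
      exact h1
    have hgen'' : ∀ s : (S : Subgroup G), ∃ i : ℤ, ∃ e : (S : Subgroup G), (e : G) ∈ C₀ ∧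
        (s = A ^ i * e ∨ s = X * A ^ i * e) := fun s => by
      obtain ⟨i, e, he, h⟩ := hgen' s
      exact ⟨i, ⟨e, meetGen_le S (hC he)⟩, he, h.imp (fun h => Subtype.ext (by simpa [hA] using h))
        (fun h => Subtype.ext (by simpa [hA, hX] using h))⟩
    have hce : ∀ {e : (S : Subgroup G)}, (e : G) ∈ C₀ → ∀ s : (S : Subgroup G), Commute (π s) (π e) :=
      fun he s => (show Commute s _ from Subtype.ext (hG.comm (hC he) s.2)).map π
    have hall : ∀ s r : (S : Subgroup G), Commute (π s) (π r) := by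
      have h1 : ∀ s : (S : Subgroup G), Commute (π s) (π A) ∧ Commute (π s) (π X) := fun s => by
        obtain ⟨i, e, he, rfl | rfl⟩ := hgen'' s
        · exact ⟨by rw [map_mul, map_zpow]; exact ((Commute.refl _).zpow_left i).mul_left (hce he A).symm,
            by rw [map_mul, map_zpow]; exact (hAX.symm.zpow_left i).mul_left (hce he X).symm⟩
        · exact ⟨by
              rw [map_mul, map_mul, map_zpow]
              exact (hAX.mul_left ((Commute.refl _).zpow_left i)).mul_left (hce he A).symm,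
            by
              rw [map_mul, map_mul, map_zpow]
              exact ((Commute.refl _).mul_left (hAX.symm.zpow_left i)).mul_left (hce he X).symm⟩
      intro s r
      obtain ⟨i, e, he, rfl | rfl⟩ := hgen'' r
      · rw [map_mul, map_zpow]; exact ((h1 s).1.zpow_right i).mul_right (hce he s)
      · rw [map_mul, map_mul, map_zpow]; exact ((h1 s).2.mul_right ((h1 s).1.zpow_right i)).mul_right (hce he s)
    obtain ⟨j, hj⟩ := IsPGroup.iff_orderOf.1 S.isPGroup' ⟨d, hdS⟩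
    rw [Subgroup.orderOf_mk] at hj
    have hj0 : j ≠ 0 := fun e => hd1 (orderOf_eq_one_iff.1 (by rw [hj, e, pow_zero]))
    set z := d ^ 2 ^ (j - 1) with hz
    have hz2 : orderOf z = 2 := by
      rw [hz, orderOf_pow' _ (pow_ne_zero _ two_ne_zero), hj,
        Nat.gcd_eq_right (pow_dvd_pow 2 (by omega : j - 1 ≤ j)), Nat.pow_div (by omega) two_pos,
        show j - (j - 1) = 1 by omega, pow_one]
    have huniq : ∀ w ∈ zpowers d, orderOf w = 2 → w = z := fun w hw hw2 => by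
      by_contra hne
      exact CfsgLib.CyclicInter.not_isCyclic_of_two_involutions hw (pow_mem (mem_zpowers d) _ : z ∈ zpowers d)
        hw2 hz2 hne (Subgroup.isCyclic_zpowers d)
    have hfix : ∀ n ∈ normalizer ((S : Subgroup G) : Set G), n * z = z * n := fun n hn => by
      have h1 : n * d * n⁻¹ ∈ zpowers d := by
        have hm : ∀ {r : G}, r ∈ (S : Subgroup G) → n * r * n⁻¹ ∈ (S : Subgroup G) := fun hr =>
          (mem_normalizer_iff.1 hn _).1 hr
        set X' : (S : Subgroup G) := ⟨n * x * n⁻¹, hm hx⟩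
        set A' : (S : Subgroup G) := ⟨n * a * n⁻¹, hm ha⟩
        have h2 : X' * A' * X'⁻¹ * A'⁻¹ ∈ Dd := (QuotientGroup.eq_one_iff _).1 (show π _ = 1 by
          rw [map_mul, map_mul, map_mul, map_inv, map_inv, (hall X' A').eq, mul_inv_cancel_right, mul_inv_cancel])
        obtain ⟨i, hi⟩ := h2
        refine ⟨i, ?_⟩
        have h3 := congrArg Subtype.val hi
        simp only [SubgroupClass.coe_zpow, Subgroup.coe_mul, Subgroup.coe_inv, X', A'] at h3
        show d ^ i = _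
        rw [h3, hd]
        group
      have h4 : n * z * n⁻¹ ∈ zpowers d := by
        rw [hz, ← conj_pow]; exact pow_mem h1 _
      exact mul_inv_eq_iff_eq_mul.1 (huniq _ h4 (by rw [CfsgLib.Signalizer.orderOf_conj]; exact hz2))
    exact hG.no_fixed hO hP (pow_mem hdS _) hz2 (fun s hs => hfix s (le_normalizer hs)) hfix

/-- Without odd and 2-core, `S` centralises every odd subgroup that it normalises. -/
theorem le_centralizer_of_odd (hO : Cfsg.oddCore G = ⊥) (hP : Cfsg.pCore 2 G = ⊥) (S : Sylow 2 G)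
    {Q : Subgroup G} (hQ : Odd (Nat.card Q)) (hS : (S : Subgroup G) ≤ normalizer (Q : Set G)) :
    (S : Subgroup G) ≤ centralizer (Q : Set G) :=
  (hG.centralizes_or_twoGen S hQ hS).resolve_right (hG.not_twoGen hO hP S)

end Hyp

end CfsgLib.CentralMeet
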