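import Cfsg.Agent.Lib.Invol.CentralMeet.Basic
import Cfsg.Agent.Lib.TwoFusion.DihedralProduct.Nested

/-!
Owner: helper18. S3181: the hypothesis in the sections.

* `Hyp.subgroup`: subgroups containing a Sylow 2-subgroup.
* `Hyp.map`: images with the kernel meeting each `S` inside `meetGen S`.
* `Hyp.quot_pCore`: the quotient by a central 2-core.
-/

set_option autoImplicit false
set_option linter.style.haveILetI false
set_option linter.unusedSectionVars false

namespace CfsgLib.CentralMeet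

open Subgroup

universe u v

variable {G : Type u} [Group G] [Finite G]

/-- The Sylow subgroups of a subgroup containing a Sylow subgroup are Sylow subgroups. -/
theorem exists_sylow_eq_map {K : Subgroup G} {S₀ : Sylow 2 G} (hS₀ : (S₀ : Subgroup G) ≤ K) (S : Sylow 2 K) :
    ∃ R : Sylow 2 G, (R : Subgroup G) = (S : Subgroup K).map K.subtype := by
  haveI := Fact.mk Nat.prime_two
  refine ⟨Sylow.ofCard ((S : Subgroup K).map K.subtype) ?_, rfl⟩
  rw [Subgroup.card_map_of_injective K.subtype_injective, Nat.card_congr (S.equiv (S₀.subtype hS₀)).toEquiv,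
    Sylow.coe_subtype, Nat.card_congr (subgroupOfEquivOfLe hS₀).toEquiv, S₀.card_eq_multiplicity]

theorem Hyp.subgroup (hG : Hyp G) {K : Subgroup G} {S₀ : Sylow 2 G} (hS₀ : (S₀ : Subgroup G) ≤ K) : Hyp ↥K := by
  refine ⟨fun S T hne x hx => ?_, fun S => ?_⟩
  · obtain ⟨S', hS'⟩ := exists_sylow_eq_map hS₀ S
    obtain ⟨T', hT'⟩ := exists_sylow_eq_map hS₀ T
    have hne' : S' ≠ T' := fun e => hne (Sylow.ext (Subgroup.map_injective K.subtype_injective
      (by rw [← hS', ← hT', e])))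
    refine mem_centralizer_iff.2 fun s hs => Subtype.ext ?_
    have h1 : (x : G) ∈ (S' : Subgroup G) ⊓ (T' : Subgroup G) := by
      rw [hS', hT']; exact ⟨⟨x, hx.1, rfl⟩, ⟨x, hx.2, rfl⟩⟩
    exact mem_centralizer_iff.1 (hG.central S' T' hne' h1) s (hS' ▸ ⟨s, hs, rfl⟩ : (s : G) ∈ (S' : Subgroup G))
  · obtain ⟨S', hS'⟩ := exists_sylow_eq_map hS₀ S
    have hle : (meetGen S).map K.subtype ≤ meetGen S' := by
      unfold meetGen
      rw [Subgroup.map_iSup]
      refine iSup_le fun T => ?_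
      rw [Subgroup.map_iSup]
      refine iSup_le fun hT => ?_
      obtain ⟨T', hT'⟩ := exists_sylow_eq_map hS₀ T
      have hne' : T' ≠ S' := fun e => hT (Sylow.ext (Subgroup.map_injective K.subtype_injective
        (by rw [← hS', ← hT', e])))
      refine le_trans ?_ (inf_le_meetGen hne')
      rw [hS', hT']
      exact Subgroup.map_inf_le _ _ _
    obtain ⟨s, hs, hs'⟩ := hG.proper S'
    obtain ⟨w, hw, rfl⟩ := (hS'.le hs : s ∈ (S : Subgroup K).map K.subtype)
    exact ⟨w, hw, fun h => hs' (hle ⟨w, h, rfl⟩)⟩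

theorem Hyp.map (hG : Hyp G) {G' : Type v} [Group G'] {f : G →* G'} (hf : Function.Surjective f)
    (hker : ∀ S : Sylow 2 G, f.ker ⊓ (S : Subgroup G) ≤ meetGen S) : Hyp G' := by
  haveI := Fact.mk Nat.prime_two
  have hlift : ∀ (S : Sylow 2 G) (T' : Sylow 2 G'), T' ≠ S.mapSurjective hf →
      ∀ x ∈ (S.mapSurjective hf : Subgroup G') ⊓ (T' : Subgroup G'), x ∈ (meetGen S).map f := by
    intro S T' hne x hx
    rw [Sylow.coe_mapSurjective] at hx
    obtain ⟨s, hs, rfl⟩ := hx.1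
    obtain ⟨T, rfl⟩ := Sylow.mapSurjective_surjective hf 2 T'
    set W := ((T : Subgroup G).map f).comap f with hW
    have hTW : (T : Subgroup G) ≤ W := le_comap_map _ _
    have hsW : s ∈ W := by
      rw [hW, mem_comap, ← Sylow.coe_mapSurjective hf T]
      exact hx.2
    have hp : IsPGroup 2 (zpowers (⟨s, hsW⟩ : W)) :=
      (S.isPGroup'.comap_of_injective W.subtype W.subtype_injective).to_le (zpowers_le.2 hs)
    obtain ⟨Q, hQ⟩ := hp.exists_le_sylow
    obtain ⟨m, hm⟩ := MulAction.exists_smul_eq W (T.subtype hTW) Q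
    have hsm : s ∈ (((m : G) • T : Sylow 2 G) : Subgroup G) := by
      have h1 : (⟨s, hsW⟩ : W) ∈ ((m • T.subtype hTW : Sylow 2 W) : Subgroup W) := hm ▸ hQ (mem_zpowers _)
      rw [Sylow.coe_subgroup_smul, Subgroup.mem_pointwise_smul_iff_inv_smul_mem] at h1
      simp only [MulAut.smul_def, MulAut.conj_inv_apply, Sylow.coe_subtype, mem_subgroupOf,
        Subgroup.coe_mul, Subgroup.coe_inv] at h1
      exact mem_smul_sylow.2 h1
    have hmT : f (m : G) ∈ (T : Subgroup G).map f := m.2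
    refine ⟨s, inf_le_meetGen (T := (m : G) • T) (fun e => hne ?_) ⟨hs, hsm⟩, rfl⟩
    refine (Sylow.ext ((S.mapSurjective hf).is_maximal' (T.mapSurjective hf).isPGroup' fun y hy => ?_))
    rw [Sylow.coe_mapSurjective] at hy ⊢
    obtain ⟨r, hr, rfl⟩ := hy
    rw [← e] at hr
    have h1 := mem_smul_sylow.1 hr
    rw [show r = (m : G) * ((m : G)⁻¹ * r * m) * (m : G)⁻¹ by group, map_mul, map_mul, map_inv]
    exact mul_mem (mul_mem hmT (mem_map_of_mem f h1)) (inv_mem hmT)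
  refine ⟨fun S' T' hne x hx => ?_, fun S' => ?_⟩
  · obtain ⟨S, rfl⟩ := Sylow.mapSurjective_surjective hf 2 S'
    obtain ⟨w, hw, rfl⟩ := hlift S T' hne.symm x hx
    refine mem_centralizer_iff.2 fun y hy => ?_
    rw [Sylow.coe_mapSurjective] at hy
    obtain ⟨r, hr, rfl⟩ := hy
    rw [← map_mul, ← map_mul, hG.comm hw hr]
  · obtain ⟨S, rfl⟩ := Sylow.mapSurjective_surjective hf 2 S'
    obtain ⟨s, hs, hs'⟩ := hG.proper S
    have hle : meetGen (S.mapSurjective hf) ≤ (meetGen S).map f :=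
      iSup₂_le fun T' hT' x hx => hlift S T' hT' x hx
    refine ⟨f s, by rw [Sylow.coe_mapSurjective]; exact mem_map_of_mem f hs, fun h => hs' ?_⟩
    obtain ⟨w, hw, e⟩ := hle h
    have h1 : w⁻¹ * s ∈ f.ker ⊓ (S : Subgroup G) :=
      ⟨by show w⁻¹ * s ∈ f.ker; rw [MonoidHom.mem_ker, map_mul, map_inv, e, inv_mul_cancel],
        (S : Subgroup G).mul_mem ((S : Subgroup G).inv_mem (meetGen_le S hw)) hs⟩
    have := mul_mem hw (hker S h1)
    rwa [mul_inv_cancel_left] at this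

theorem sylow_inf_odd {N : Subgroup G} (hN : Odd (Nat.card N)) (S : Sylow 2 G) :
    N ⊓ (S : Subgroup G) = ⊥ := by
  refine (Subgroup.eq_bot_iff_forall _).2 fun x hx => ?_
  obtain ⟨i, hi⟩ := IsPGroup.iff_orderOf.1 S.isPGroup' ⟨x, hx.2⟩
  rw [Subgroup.orderOf_mk] at hi
  exact orderOf_eq_one_iff.1 (Nat.eq_one_of_dvd_coprimes ((Nat.coprime_two_left.2 hN).pow_left i)
    (dvd_of_eq hi) (Subgroup.orderOf_dvd_natCard N hx.1))

theorem Hyp.quot_oddCore (hG : Hyp G) : Hyp (G ⧸ Cfsg.oddCore G) :=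
  hG.map (QuotientGroup.mk'_surjective _) fun S => by
    rw [QuotientGroup.ker_mk', sylow_inf_odd (CfsgLib.ZStar.odd_card_oddCore G) S]
    exact bot_le

theorem pCore_le_meetGen (hne : ∃ S T : Sylow 2 G, S ≠ T) (S : Sylow 2 G) : Cfsg.pCore 2 G ≤ meetGen S := by
  obtain ⟨A, B, hAB⟩ := hne
  obtain ⟨T, hT⟩ : ∃ T : Sylow 2 G, T ≠ S := by
    by_cases h : A = S
    · exact ⟨B, fun e => hAB (h.trans e.symm)⟩
    · exact ⟨A, h⟩
  exact le_trans (le_inf (CfsgLib.HallGen.pCore_le_sylow S) (CfsgLib.HallGen.pCore_le_sylow T)) (inf_le_meetGen hT)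

theorem Hyp.quot_pCore (hG : Hyp G) [(Cfsg.pCore 2 G).Normal] (hO : Cfsg.oddCore G = ⊥)
    (hne : ∃ S T : Sylow 2 G, S ≠ T) (hc : Cfsg.pCore 2 G ≤ center G) :
    Hyp (G ⧸ Cfsg.pCore 2 G) ∧ Cfsg.oddCore (G ⧸ Cfsg.pCore 2 G) = ⊥ ∧
      Cfsg.pCore 2 (G ⧸ Cfsg.pCore 2 G) = ⊥ :=
  ⟨hG.map (QuotientGroup.mk'_surjective _) fun S => by
      rw [QuotientGroup.ker_mk']
      exact inf_le_left.trans (pCore_le_meetGen hne S),
    CfsgLib.TwoFusion.DihedralProduct.oddCore_quotient_central _ hc (CfsgLib.HallGen.isPGroup_pCore 2) hO,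
    CfsgLib.Core.pCore_quotient_pCore 2 G⟩

/-- A normal subgroup has no more odd core. -/
theorem oddCore_normal_eq_bot (hO : Cfsg.oddCore G = ⊥) (N : Subgroup G) [N.Normal] : Cfsg.oddCore N = ⊥ := by
  haveI := Fact.mk Nat.prime_two
  haveI : (Cfsg.oddCore N).Characteristic := CfsgLib.Core.characteristic_pPrimeCore 2 N
  have h1 : (Cfsg.oddCore N).map N.subtype ≤ Cfsg.oddCore G := CfsgLib.ZStar.le_oddCore inferInstance
    ((CfsgLib.ZStar.odd_card_oddCore N).of_dvd_nat (Subgroup.card_map_dvd _ _))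
  rw [hO, le_bot_iff, map_eq_bot_iff_of_injective _ N.subtype_injective] at h1
  exact h1

/-- Central intersections from the hypothesis of S3181. -/
theorem central_of_CI
    (hCI : ∀ S T : Sylow 2 G, S ≠ T → ∃ U : Sylow 2 G,
      (S : Subgroup G) ⊓ (T : Subgroup G) ≤ (center ↥(U : Subgroup G)).map (U : Subgroup G).subtype)
    (S T : Sylow 2 G) (hne : S ≠ T) :
    (S : Subgroup G) ⊓ (T : Subgroup G) ≤ centralizer ((S : Subgroup G) : Set G) := by
  haveI := Fact.mk Nat.prime_two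
  intro w hw
  by_contra hw'
  obtain ⟨U, hU⟩ := hCI S T hne
  obtain ⟨⟨w₀, hw₀U⟩, hw₀c, rfl⟩ := hU hw
  set C := centralizer ({w₀} : Set G) with hC
  have hUC : (U : Subgroup G) ≤ C := fun r hr =>
    mem_centralizer_singleton_iff.2 (congrArg Subtype.val (mem_center_iff.1 hw₀c ⟨r, hr⟩))
  have hp : IsPGroup 2 (((S : Subgroup G) ⊓ C).subgroupOf C) :=
    (S.isPGroup'.to_le inf_le_left).of_equiv (subgroupOfEquivOfLe inf_le_right).symm
  obtain ⟨Q, hQ⟩ := hp.exists_le_sylow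
  obtain ⟨U', hU'⟩ := exists_sylow_eq_map hUC Q
  have hU'C : (U' : Subgroup G) ≤ C := hU' ▸ map_subtype_le _
  have hSU : S ≠ U' := fun e => hw' (mem_centralizer_iff.2 fun s hs =>
    mem_centralizer_singleton_iff.1 (hU'C (e ▸ hs : s ∈ (U' : Subgroup G))))
  obtain ⟨V, hV⟩ := hCI S U' hSU
  set ZS := (center ↥(S : Subgroup G)).map (S : Subgroup G).subtype with hZS
  have hZle : ZS ⊔ zpowers w₀ ≤ (center ↥(V : Subgroup G)).map (V : Subgroup G).subtype := by
    refine le_trans ?_ hV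
    have hin : ∀ x, x ∈ (S : Subgroup G) → x ∈ C → x ∈ (S : Subgroup G) ⊓ (U' : Subgroup G) := fun x hxS hxC =>
      ⟨hxS, hU' ▸ ⟨⟨x, hxC⟩, hQ (mem_subgroupOf.2 (⟨hxS, hxC⟩ : x ∈ (S : Subgroup G) ⊓ C)), rfl⟩⟩
    refine sup_le ?_ (zpowers_le.2 (hin w₀ hw.1 (mem_centralizer_singleton_iff.2 rfl)))
    rintro _ ⟨⟨z, hz⟩, hzc, rfl⟩
    exact hin z hz (mem_centralizer_singleton_iff.2 (congrArg Subtype.val (mem_center_iff.1 hzc ⟨w₀, hw.1⟩)).symm)
  have hcard : Nat.card ((center ↥(V : Subgroup G)).map (V : Subgroup G).subtype) = Nat.card ZS := by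
    rw [hZS, Subgroup.card_map_of_injective (V : Subgroup G).subtype_injective,
      Subgroup.card_map_of_injective (S : Subgroup G).subtype_injective]
    exact Nat.card_congr (Subgroup.centerCongr (V.equiv S)).toEquiv
  have heq : ZS = ZS ⊔ zpowers w₀ := eq_of_le_of_card_ge le_sup_left (hcard ▸ card_le_of_le hZle)
  obtain ⟨⟨z, hz⟩, hzc, e⟩ := (heq ▸ mem_sup_right (mem_zpowers w₀) : w₀ ∈ ZS)
  refine hw' (mem_centralizer_iff.2 fun s hs => ?_)
  have he : z = w₀ := e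
  subst he
  exact congrArg Subtype.val (mem_center_iff.1 hzc ⟨s, hs⟩)

/-- The hypothesis holds when some Sylow 2-subgroup is nonabelian. -/
theorem hyp_of_CI
    (hCI : ∀ S T : Sylow 2 G, S ≠ T → ∃ U : Sylow 2 G,
      (S : Subgroup G) ⊓ (T : Subgroup G) ≤ (center ↥(U : Subgroup G)).map (U : Subgroup G).subtype)
    (hna : ¬ ∀ S : Sylow 2 G, IsMulCommutative ↥(S : Subgroup G)) : Hyp G := by
  haveI := Fact.mk Nat.prime_two
  refine ⟨central_of_CI hCI, fun S => ?_⟩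
  by_contra h
  push Not at h
  refine hna fun T => ?_
  have hS : IsMulCommutative ↥(S : Subgroup G) := ⟨⟨fun a b => Subtype.ext
    (mem_centralizer_iff.1 ((iSup₂_le fun T hT => central_of_CI hCI S T (Ne.symm hT) : meetGen S ≤ _) (h b b.2)) a a.2)⟩⟩
  exact ⟨⟨fun a b => (T.equiv S).injective (by rw [map_mul, map_mul]; exact hS.is_comm.comm _ _)⟩⟩

end CfsgLib.CentralMeet
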