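import Cfsg.Agent.Lib.Invol.CentralMeet.Local
import Cfsg.Agent.Lib.Invol.CentralMeet.Models
import Cfsg.Agent.Lib.Bender.Gen.Final
import Cfsg.Agent.Lib.Invol.RankOneInter.Final.Names

/-!
Owner: helper18. S3181: groups with trivial intersections, and central covers.

* `TIGroup`: the hypothesis, no odd and 2-core, and trivial intersections.
* `TIGroup.exists_family`: the normal simple subgroup of odd index.
* `TIGroup.sylow_cases`: the shape of a Sylow 2-subgroup.
* `exists_cover`: a perfect normal subgroup over a perfect normal subgroup generated by 2-elements.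
-/

set_option autoImplicit false
set_option linter.style.haveILetI false
set_option linter.unusedSectionVars false

namespace CfsgLib.CentralMeet

open Subgroup
open CfsgLib.Bender (benderGen)

universe u v

variable {Q : Type u} [Group Q] [Finite Q]

/-- Trivial intersections, without odd and 2-core. -/
structure TIGroup (Q : Type u) [Group Q] : Prop where
  hyp : Hyp Q
  oddCore_eq : Cfsg.oddCore Q = ⊥
  pCore_eq : Cfsg.pCore 2 Q = ⊥
  ti : ∀ A B : Sylow 2 Q, A ≠ B → (A : Subgroup Q) ⊓ (B : Subgroup Q) = ⊥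

namespace TIGroup

variable (h : TIGroup Q)
include h

theorem exists_ne (S : Sylow 2 Q) : ∃ T : Sylow 2 Q, T ≠ S := by
  haveI := Fact.mk Nat.prime_two
  by_contra hall
  push Not at hall
  haveI : (S : Subgroup Q).Normal := normalizer_eq_top_iff.1 (eq_top_iff.2 fun g _ =>
    Sylow.smul_eq_iff_mem_normalizer.1 (hall (g • S)))
  exact h.hyp.ne_bot S (le_bot_iff.1 (h.pCore_eq ▸ le_sSup ⟨inferInstance, S.isPGroup'⟩))

theorem mem_of_normalizes {S : Sylow 2 Q} {x : Q} (hx : orderOf x = 2) (hn : x ∈ normalizer (S : Set Q)) :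
    x ∈ (S : Subgroup Q) := by
  haveI := Fact.mk Nat.prime_two
  have hp : IsPGroup 2 (zpowers x) := IsPGroup.of_card (n := 1) (by rw [Nat.card_zpowers, hx, pow_one])
  have h' : x ∈ zpowers x ⊓ normalizer (S : Set Q) := ⟨mem_zpowers x, hn⟩
  rw [hp.inf_normalizer_sylow S] at h'
  exact h'.2

theorem eq_of_mem {S T : Sylow 2 Q} {x : Q} (hx : x ≠ 1) (hS : x ∈ (S : Subgroup Q)) (hT : x ∈ (T : Subgroup Q)) :
    T = S := by_contra fun hne => by
  have h1 : x ∈ (T : Subgroup Q) ⊓ (S : Subgroup Q) := ⟨hT, hS⟩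
  rw [h.ti T S hne, mem_bot] at h1
  exact hx h1

theorem stronglyEmbedded (S : Sylow 2 Q) : Cfsg.IsStronglyEmbedded (normalizer (S : Set Q)) := by
  haveI := Fact.mk Nat.prime_two
  refine ⟨fun e => ?_, ?_, fun g hg => ?_⟩
  · obtain ⟨T, hT⟩ := h.exists_ne S
    obtain ⟨g, rfl⟩ := MulAction.exists_smul_eq Q S T
    exact hT (Sylow.smul_eq_iff_mem_normalizer.2 (eq_top_iff.1 e (mem_top g)))
  · obtain ⟨z, hz, hz2, -⟩ := h.hyp.exists_central_involution S
    refine even_iff_two_dvd.2 ?_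
    exact hz2.symm.dvd.trans (Subgroup.orderOf_dvd_natCard _ (le_normalizer hz))
  · rw [← Nat.not_even_iff_odd]
    intro hev
    obtain ⟨w, ⟨hw, hw'⟩, hw2⟩ := CfsgLib.Signalizer.exists_involution_of_even hev
    have h1 := h.mem_of_normalizes hw2 hw
    have h2 : w ∈ ((g • S : Sylow 2 Q) : Subgroup Q) := by
      refine h.mem_of_normalizes hw2 ?_
      obtain ⟨v, hv, rfl⟩ := hw'
      rw [← Sylow.smul_eq_iff_mem_normalizer]
      show (g * v * g⁻¹) • g • S = g • S
      rw [mul_smul, mul_smul, inv_smul_smul, Sylow.smul_eq_iff_mem_normalizer.2 hv]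
    exact hg (Sylow.smul_eq_iff_mem_normalizer.1
      (h.eq_of_mem (CfsgLib.Signalizer.involution_ne_one hw2) h1 h2))

/-- The involutions of `S` are conjugate in the normaliser. -/
theorem conj_involutions {S : Sylow 2 Q} {x y : Q} (hx : x ∈ (S : Subgroup Q)) (hx2 : orderOf x = 2)
    (hy : y ∈ (S : Subgroup Q)) (hy2 : orderOf y = 2) : ∃ n ∈ normalizer (S : Set Q), n * x * n⁻¹ = y := by
  obtain ⟨g, hg⟩ := isConj_iff.1 (CfsgLib.TwoGroups.SE.isConj_involutions (h.stronglyEmbedded S) hx2 hy2)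
  refine ⟨g, Sylow.smul_eq_iff_mem_normalizer.1 (h.eq_of_mem (CfsgLib.Signalizer.involution_ne_one hy2) hy ?_), hg⟩
  exact hg ▸ conj_mem_smul hx

theorem central {S : Sylow 2 Q} {x : Q} (hx : x ∈ (S : Subgroup Q)) (hx2 : orderOf x = 2) {s : Q}
    (hs : s ∈ (S : Subgroup Q)) : s * x = x * s := by
  obtain ⟨z, hz, hz2, hzc⟩ := h.hyp.exists_central_involution S
  obtain ⟨n, hn, rfl⟩ := h.conj_involutions hz hz2 hx hx2
  have h1 := hzc (n⁻¹ * s * n) (by
    have h2 := (mem_normalizer_iff.1 (inv_mem hn) s).1 hs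
    simpa using h2)
  have h2 := congrArg (fun w => n * w * n⁻¹) h1
  simpa [mul_assoc] using h2

theorem two_involutions (S : Sylow 2 Q) : ∃ x ∈ (S : Subgroup Q), ∃ y ∈ (S : Subgroup Q),
    orderOf x = 2 ∧ orderOf y = 2 ∧ x ≠ y := by
  obtain ⟨z, hz, hz2, hzc⟩ := h.hyp.exists_central_involution S
  obtain ⟨x, hx, hx2, hne⟩ := h.hyp.exists_second_involution h.oddCore_eq h.pCore_eq S hz hz2 hzc
  exact ⟨x, hx, z, hz, hx2, hz2, hne⟩

theorem exists_family : ∃ J : Subgroup Q, J.Normal ∧ Odd J.index ∧ CfsgLib.Bender.RankOneFamily J ∧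
    commutator J = ⊤ ∧ (∀ S : Sylow 2 Q, (S : Subgroup Q) ≤ J) ∧
    J ≤ closure {y | y ∈ J ∧ ∃ i : ℕ, y ^ 2 ^ i = 1} := by
  haveI := Fact.mk Nat.prime_two
  obtain ⟨S⟩ := (inferInstance : Nonempty (Sylow 2 Q))
  obtain ⟨x, hx, y, hy, hx2, hy2, hne⟩ := h.two_involutions S
  have hfam := CfsgLib.Bender.closure_family benderGen (h.stronglyEmbedded S)
    ⟨x, le_normalizer hx, y, le_normalizer hy, hx2, hy2, hne, h.central hy hy2 hx⟩
    (le_bot_iff.1 (h.oddCore_eq ▸ CfsgLib.Bender.normalCore_le_oddCore (h.stronglyEmbedded S)))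
  set J := Cfsg.pElementClosure 2 (⊤ : Subgroup Q) with hJ
  have hSJ : ∀ R : Sylow 2 Q, (R : Subgroup Q) ≤ J := fun R w hw => by
    obtain ⟨i, hi⟩ := IsPGroup.iff_orderOf.1 R.isPGroup' ⟨w, hw⟩
    exact subset_closure ⟨mem_top _, i, by rw [← hi, Subgroup.orderOf_mk]⟩
  haveI hJn : J.Normal := by
    refine ⟨fun n hn g => ?_⟩
    have h' : J.map (MulAut.conj g).toMonoidHom ≤ J := by
      rw [hJ, Cfsg.pElementClosure, MonoidHom.map_closure, closure_le]
      rintro _ ⟨w, ⟨-, i, hi⟩, rfl⟩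
      exact subset_closure ⟨mem_top _, i, (CfsgLib.Signalizer.orderOf_conj g w).trans hi⟩
    exact h' ⟨n, hn, rfl⟩
  haveI := CfsgLib.RankOneInter.Final.isSimple_of_family hfam
  refine ⟨J, hJn, ?_, hfam, ?_, hSJ, ?_⟩
  · rw [← Nat.not_even_iff_odd, even_iff_two_dvd]
    exact fun hd => S.not_dvd_index (hd.trans (index_dvd_of_le (hSJ S)))
  · refine ((commutator_normal (⊤ : Subgroup J) ⊤).eq_bot_or_eq_top).resolve_left fun hb => ?_
    rw [commutator_eq_bot_iff_le_centralizer] at hb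
    obtain ⟨T, hT⟩ := h.exists_ne S
    haveI : ((S.subtype (hSJ S)) : Subgroup J).Normal := ⟨fun a ha g => by
      rw [mem_centralizer_iff.1 (hb (mem_top g)) a (mem_top a) |>.symm, mul_inv_cancel_right]
      exact ha⟩
    haveI : Subsingleton (Sylow 2 J) := (Sylow.unique_of_normal (S.subtype (hSJ S)) inferInstance).instSubsingleton
    exact hT (Sylow.subtype_injective (Subsingleton.elim (T.subtype (hSJ T)) (S.subtype (hSJ S))))
  · refine ((closure_le _).2 ?_)
    rintro w ⟨-, i, hi⟩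
    exact subset_closure ⟨subset_closure ⟨mem_top _, i, hi⟩, i, hi ▸ pow_orderOf_eq_one w⟩

/-- The shape of a Sylow subgroup. -/
theorem sylow_cases (S : Sylow 2 Q) : (∀ x ∈ (S : Subgroup Q), x * x = 1) ∨
    (Shape (S : Subgroup Q) ∧ (Transitive (S : Subgroup Q) ∨
      ∃ J : Subgroup Q, J.Normal ∧ OddCover J ∧ commutator J = ⊤ ∧ (S : Subgroup Q) ≤ J ∧
        J ≤ closure {y | y ∈ J ∧ ∃ i : ℕ, y ^ 2 ^ i = 1})) := by
  obtain ⟨J, hJn, -, hfam, hperf, hSJ, hgen⟩ := h.exists_family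
  rcases CfsgLib.CentralMeet.sylow_cases hfam (S.subtype (hSJ S)) with h1 | ⟨h1, h2⟩
  · exact Or.inl fun x hx => congrArg Subtype.val (h1 ⟨x, hSJ S hx⟩ hx)
  refine Or.inr ⟨?_, ?_⟩
  · refine ⟨fun x hx y hy => congrArg Subtype.val (h1.sq_central ⟨x, hSJ S hx⟩ hx ⟨y, hSJ S hy⟩ hy),
      fun x hx hc => congrArg Subtype.val (h1.central_sq ⟨x, hSJ S hx⟩ hx
        fun y hy => Subtype.ext (hc (y : Q) hy)), ?_⟩
    refine h1.big.trans (le_of_eq ?_)
    let e : ↥(S : Subgroup Q) ≃* ↥((S : Subgroup Q).subgroupOf J) := (subgroupOfEquivOfLe (hSJ S)).symm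
    have hc : (center (S : Subgroup Q)).map e.toMonoidHom = center ((S : Subgroup Q).subgroupOf J) := by
      ext y
      rw [mem_map_equiv, mem_center_iff, mem_center_iff]
      exact ⟨fun h z => e.symm.injective (by simpa using h (e.symm z)),
        fun h z => e.injective (by simpa using h (e z))⟩
    show (center ((S : Subgroup Q).subgroupOf J)).index = _
    rw [← hc]
    exact index_map_equiv _ e
  · rcases h2 with h2 | h2
    · refine Or.inl fun x hx y hy hxn hyn => ?_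
      have hnc : ∀ {x : Q} (hx : x ∈ (S : Subgroup Q)), (∃ r ∈ (S : Subgroup Q), r * x ≠ x * r) →
          ∃ r ∈ (S : Subgroup Q).subgroupOf J, r * ⟨x, hSJ S hx⟩ ≠ ⟨x, hSJ S hx⟩ * r :=
        fun hx ⟨r, hr, hne⟩ => ⟨⟨r, hSJ S hr⟩, hr, fun e => hne (congrArg Subtype.val e)⟩
      obtain ⟨n, hn, hc⟩ := h2 ⟨x, hSJ S hx⟩ hx ⟨y, hSJ S hy⟩ hy (hnc hx hxn) (hnc hy hyn)
      refine ⟨n, ?_, fun r hr => congrArg Subtype.val (hc ⟨r, hSJ S hr⟩ hr)⟩
      rw [mem_normalizer_iff]
      intro z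
      have hn' := mem_normalizer_iff.1 hn
      constructor
      · intro hz
        exact (hn' ⟨z, hSJ S hz⟩).1 hz
      · intro hz
        have hzJ : z ∈ J := by
          have h3 := hJn.conj_mem _ (hSJ S hz) (n : Q)⁻¹
          simpa [mul_assoc] using h3
        exact (hn' ⟨z, hzJ⟩).2 hz
    · exact Or.inr ⟨J, hJn, h2, hperf, hSJ S, hgen⟩

end TIGroup

/-- A perfect normal subgroup over a perfect normal subgroup generated by 2-elements. -/
theorem exists_cover {L : Type u} [Group L] [Finite L] {Q : Type v} [Group Q] (f : L →* Q)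
    (hf : Function.Surjective f)
    (hcent : ∀ k ∈ f.ker, ∀ a : L, (∃ i : ℕ, a ^ 2 ^ i = 1) → a * k = k * a)
    (J : Subgroup Q) (hJn : J.Normal) (hperf : commutator J = ⊤)
    (hgen : J ≤ closure {y | y ∈ J ∧ ∃ i : ℕ, y ^ 2 ^ i = 1}) :
    ∃ E : Subgroup L, E.Normal ∧ Group.IsPerfect E ∧ E.map f = J ∧
      ∀ k ∈ f.ker, ∀ e ∈ E, e * k = k * e := by
  set W := {g : L | f g ∈ J ∧ ∃ i : ℕ, g ^ 2 ^ i = 1} with hW
  set Ω := closure W with hΩ
  haveI hΩn : Ω.Normal := by
    refine ⟨fun n hn g => ?_⟩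
    have h' : Ω.map (MulAut.conj g).toMonoidHom ≤ Ω := by
      rw [hΩ, MonoidHom.map_closure, closure_le]
      rintro _ ⟨w, ⟨hw, i, hi⟩, rfl⟩
      refine subset_closure ⟨?_, i, ?_⟩
      · show f (g * w * g⁻¹) ∈ J
        rw [map_mul, map_mul, map_inv]; exact hJn.conj_mem _ hw _
      · show (g * w * g⁻¹) ^ 2 ^ i = 1
        rw [conj_pow, hi, mul_one, mul_inv_cancel]
    exact h' ⟨n, hn, rfl⟩
  have hmap : Ω.map f = J := by
    refine le_antisymm ?_ (hgen.trans ((closure_le _).2 ?_))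
    · rw [hΩ, MonoidHom.map_closure, closure_le]
      rintro _ ⟨w, hw, rfl⟩
      exact hw.1
    · rintro y ⟨hy, i, hi⟩
      obtain ⟨g, hg⟩ := hf y
      obtain ⟨a, b, hb, hab⟩ := Nat.exists_eq_pow_mul_and_not_dvd (orderOf_pos g).ne' 2 (by norm_num)
      have hco : Nat.Coprime b (2 ^ i) :=
        (Nat.coprime_two_right.2 (Nat.not_even_iff_odd.1 fun he => hb he.two_dvd)).pow_right i
      set c : ℤ := (b * Nat.gcdA b (2 ^ i) : ℤ) with hc
      have hfc : f (g ^ c) = y := by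
        have h := Nat.gcd_eq_gcd_ab b (2 ^ i)
        rw [hco.gcd_eq_one, Nat.cast_one] at h
        rw [map_zpow, hg]
        calc y ^ c = y ^ (c + ((2 ^ i : ℕ) : ℤ) * Nat.gcdB b (2 ^ i)) := by
              rw [zpow_add, zpow_mul y ((2 ^ i : ℕ) : ℤ), zpow_natCast, hi, one_zpow, mul_one]
          _ = y := by rw [hc, ← h, zpow_one]
      refine ⟨g ^ c, subset_closure ⟨hfc.symm ▸ hy, a, ?_⟩, hfc⟩
      rw [← zpow_natCast, ← zpow_mul,
        show c * ((2 ^ a : ℕ) : ℤ) = ((2 ^ a * b : ℕ) : ℤ) * Nat.gcdA b (2 ^ i) by rw [hc]; push_cast; ring,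
        zpow_mul, zpow_natCast, ← hab, pow_orderOf_eq_one, one_zpow]
  obtain ⟨k, hk⟩ : ∃ k, derivedSeries Ω (k + 1) = derivedSeries Ω k := by
    by_contra hne
    push Not at hne
    have hdec : ∀ k, Nat.card (derivedSeries Ω k) + k ≤ Nat.card (derivedSeries Ω 0) := by
      intro k
      induction k with
      | zero => simp
      | succ k ih =>
        have hle : derivedSeries Ω (k + 1) ≤ derivedSeries Ω k := by
          rw [derivedSeries_succ]
          exact commutator_le_self _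
        have := (card_le_of_le hle).lt_of_ne fun e => hne k (eq_of_le_of_card_ge hle e.ge)
        omega
    have := hdec (Nat.card (derivedSeries Ω 0))
    have := Nat.card_pos (α := derivedSeries Ω (Nat.card (derivedSeries Ω 0)))
    omega
  refine ⟨(derivedSeries Ω k).map Ω.subtype, inferInstance, ⟨?_⟩, ?_, ?_⟩
  · refine Subgroup.map_injective ((derivedSeries Ω k).map Ω.subtype).subtype_injective ?_
    rw [← MonoidHom.range_eq_map, range_subtype, map_subtype_commutator, ← Subgroup.map_commutator,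
      ← derivedSeries_succ, hk]
  · let φ : Ω →* J := (f.comp Ω.subtype).codRestrict J fun w => hmap ▸ mem_map_of_mem f w.2
    have hφ : Function.Surjective φ := fun y => by
      obtain ⟨w, hw, e⟩ := (hmap.symm ▸ y.2 : (y : Q) ∈ Ω.map f)
      exact ⟨⟨w, hw⟩, Subtype.ext e⟩
    have hJk : ∀ n, derivedSeries J n = ⊤ := fun n => by
      induction n with
      | zero => exact derivedSeries_zero J
      | succ n ih => rw [derivedSeries_succ, ih, ← commutator_def]; exact hperf
    have h1 := map_derivedSeries_eq hφ k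
    rw [hJk k] at h1
    have h2 := congrArg (Subgroup.map J.subtype) h1
    rw [← MonoidHom.range_eq_map, range_subtype, Subgroup.map_map] at h2
    rw [Subgroup.map_map, ← h2]
    rfl
  · intro z hz e he
    have hle : Ω ≤ centralizer (f.ker : Set L) := (closure_le _).2 fun w hw =>
      mem_centralizer_iff.2 fun k hk => (hcent k hk w hw.2).symm
    exact (mem_centralizer_iff.1 (hle (map_subtype_le _ he)) z hz).symm

end CfsgLib.CentralMeet
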